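import Cfsg.Agent.Suzuki.Tori
import Cfsg.Agent.CharInd.Basic
import Cfsg.Agent.CharInd.Induced
import Cfsg.Agent.CharInd.Clifford
import Cfsg.Agent.Char.Virtual
import Cfsg.Agent.Char.Kernel
import Cfsg.Agent.Char.Linear
import Cfsg.Agent.Char.InvolutionCount

/-!
# Characters of the Suzuki groups seen from the point stabiliser
-/

set_option autoImplicit false
set_option linter.unusedSectionVars false

namespace Cfsg.Agent.SzChar

open Cfsg Cfsg.Agent.Suzuki MulAction
open Cfsg.Agent.Char (irr_charDegree_spec)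
open scoped ComplexConjugate

variable {F : Type*} [Field F] [Fintype F] {m : ℕ} [hS : SuzukiField F m]

variable (F m) in
/-- The stabiliser of the point at infinity. -/
abbrev borel : Subgroup (Cfsg.Sz F m) := stabilizer (Cfsg.Sz F m) (oInf F m)

theorem exists_borelProj (g : borel F m) :
    ∃ l : Fˣ, ∃ a b : F, (g : Cfsg.Sz F m) = gT a b * gD l := by
  obtain ⟨a, b, l, h⟩ := exists_gT_gD_of_fix (mem_stabilizer_iff.1 g.2)
  exact ⟨l, a, b, h⟩

variable (F m) in
/-- The projection of the stabiliser onto the torus parameter. -/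
noncomputable def borelProj : borel F m →* Fˣ where
  toFun g := (exists_borelProj g).choose
  map_one' := by
    obtain ⟨a, b, h⟩ := (exists_borelProj (1 : borel F m)).choose_spec
    exact (gT_mul_gD_inj (a := a) (b := b) (c := 0) (d := 0) (l := 1)
      (h.symm.trans (show (1 : Cfsg.Sz F m) = gT 0 0 * gD 1 by rw [gT_zero, gD_one, mul_one]))).2.2
  map_mul' g g' := by
    obtain ⟨a, b, h⟩ := (exists_borelProj (g * g')).choose_spec
    obtain ⟨c, d, hg⟩ := (exists_borelProj g).choose_spec
    obtain ⟨c', d', hg'⟩ := (exists_borelProj g').choose_spec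
    exact (gT_mul_gD_inj (h.symm.trans (((congrArg₂ (· * ·) hg hg').trans
      (gT_gD_mul _ _ _ _ _ _)).trans (congrArg (· * gD _) (gT_mul _ _ _ _))))).2.2

theorem borelProj_eq {g : borel F m} {a b : F} {l : Fˣ} (h : (g : Cfsg.Sz F m) = gT a b * gD l) :
    borelProj F m g = l := by
  obtain ⟨c, d, hc⟩ := (exists_borelProj g).choose_spec
  exact (gT_mul_gD_inj (hc.symm.trans h)).2.2

theorem borelProj_surjective : Function.Surjective (borelProj F m) := fun l =>
  ⟨⟨gT 0 0 * gD l, gT_mul_gD_smul_oInf 0 0 l⟩, borelProj_eq rfl⟩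

theorem borelProj_unip {g : borel F m} (hg : (g : Cfsg.Sz F m) ∈ unip F m) :
    borelProj F m g = 1 := by
  obtain ⟨a, b, h⟩ := hg
  exact borelProj_eq (a := a) (b := b) (by rw [h, gD_one, mul_one])

/-- A linear character of the stabiliser. -/
noncomputable def borelLin (ν : Fˣ →* ℂˣ) : borel F m → ℂ :=
  fun g => (ν (borelProj F m g) : ℂ)

/-- A character induced from the stabiliser. -/
noncomputable def theta (ν : Fˣ →* ℂˣ) : Cfsg.Sz F m → ℂ :=
  letI := Fintype.ofFinite (Cfsg.Sz F m)
  indFun (borel F m) (borelLin ν)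

theorem borelLin_irr (ν : Fˣ →* ℂˣ) : IsIrrCharacter (borel F m) (borelLin (m := m) ν) :=
  Char.isIrrCharacter_monoidHom (ν.comp (borelProj F m))

theorem theta_isCharacter (ν : Fˣ →* ℂˣ) : IsCharacter (Cfsg.Sz F m) (theta (m := m) ν) := by
  classical
  letI := Fintype.ofFinite (Cfsg.Sz F m)
  letI := Fintype.ofFinite (borel F m)
  exact CharInd.isCharacter_indFun _ (Char.isCharacter_of_irr (borelLin_irr ν))

theorem conj_unitHom {X : Type*} [Group X] [Finite X] (ν : X →* ℂˣ) (x : X) :
    conj (ν x : ℂ) = (ν x⁻¹ : ℂ) := by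
  have h := (Char.isCharacter_inv
    (Char.isCharacter_of_irr (Char.isIrrCharacter_monoidHom ν)) x).symm
  exact h

theorem sum_unitHom {X : Type*} [Group X] [Fintype X] (ν : X →* ℂˣ) [Decidable (ν = 1)] :
    ∑ x : X, (ν x : ℂ) = if ν = 1 then (Nat.card X : ℂ) else 0 := by
  split_ifs with h
  · subst h; simp [Nat.card_eq_fintype_card]
  · exact Char.monoidHom_sum_eq_zero h

theorem card_borel : Nat.card (borel F m) = Fintype.card F ^ 2 * (Fintype.card F - 1) :=
  card_stabilizer_oInf

theorem card_sz_borel : Nat.card (Cfsg.Sz F m) =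
    Nat.card (borel F m) + Nat.card (borel F m) * Fintype.card F ^ 2 := by
  rw [← (borel F m).card_mul_index, index_stabilizer_of_transitive, card_suzukiOvoid]
  ring

theorem index_borel : (borel F m).index = Fintype.card F ^ 2 + 1 := by
  rw [index_stabilizer_of_transitive, card_suzukiOvoid]

theorem theta_one (ν : Fˣ →* ℂˣ) :
    theta (m := m) ν 1 = (Fintype.card F : ℂ) ^ 2 + 1 := by
  classical
  letI := Fintype.ofFinite (Cfsg.Sz F m)
  rw [theta, CharInd.indFun_one_apply, index_borel]
  simp [borelLin]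

theorem theta_semireg (ν : Fˣ →* ℂˣ) {g : Cfsg.Sz F m} (hg : Semireg g) :
    theta (m := m) ν g = 0 := by
  classical
  letI := Fintype.ofFinite (Cfsg.Sz F m)
  refine CharInd.indFun_eq_zero_of_forall (borel F m) _ fun x hx => ?_
  apply hg (x • oInf F m)
  have h := mem_stabilizer_iff.1 hx
  rw [mul_smul, mul_smul, inv_smul_eq_iff] at h
  exact h

theorem theta_unip (ν : Fˣ →* ℂˣ) {p : Cfsg.Sz F m} (hp : p ∈ unip F m) (hp1 : p ≠ 1) :
    theta (m := m) ν p = 1 := by
  classical
  letI := Fintype.ofFinite (Cfsg.Sz F m)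
  obtain ⟨a, b, rfl⟩ := hp
  have hab : a ≠ 0 ∨ b ≠ 0 := by
    by_contra h
    simp only [not_or, not_not] at h
    exact hp1 (by rw [h.1, h.2, gT_zero])
  rw [theta, CharInd.indFun_apply]
  have key : ∀ x : Cfsg.Sz F m, extendByZero (borel F m) (borelLin ν) (x⁻¹ * gT a b * x) =
      if x ∈ borel F m then 1 else 0 := by
    intro x
    split_ifs with hx
    · have hmem : x⁻¹ * gT a b * x ∈ unip F m := by
        have := conj_gT_mem_unip (g := x⁻¹) (inv_mem hx : x⁻¹ ∈ borel F m) a b
        rwa [inv_inv] at this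
      have hB : x⁻¹ * gT a b * x ∈ borel F m :=
        mul_mem (mul_mem (inv_mem hx) (gT_smul_oInf a b)) hx
      rw [CharInd.extendByZero_mem _ _ hB]
      show (ν (borelProj F m ⟨_, hB⟩) : ℂ) = 1
      rw [borelProj_unip (g := ⟨_, hB⟩) hmem, map_one, Units.val_one]
    · refine CharInd.extendByZero_notMem _ _ fun h => hx ?_
      have h := mem_stabilizer_iff.1 h
      rw [mul_smul, mul_smul, inv_smul_eq_iff] at h
      exact mem_stabilizer_iff.2 (fix_of_unip hab h)
  rw [Finset.sum_congr rfl fun x _ => key x, Finset.sum_boole, ← Fintype.card_subtype,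
    ← Nat.card_eq_fintype_card]
  rw [show Nat.card {x // x ∈ borel F m} = Nat.card (borel F m) from rfl]
  exact inv_mul_cancel₀ (Nat.cast_ne_zero.2 Nat.card_pos.ne')

/-- The inner products of the induced linear characters. -/
theorem classInner_theta (ν μ : Fˣ →* ℂˣ) [Decidable (ν = μ)] [Decidable (ν * μ = 1)] :
    letI := Fintype.ofFinite (Cfsg.Sz F m)
    classInner (theta (m := m) ν) (theta μ) =
      (if ν = μ then 1 else 0) + (if ν * μ = 1 then 1 else 0) := by
  classical
  letI := Fintype.ofFinite (Cfsg.Sz F m)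
  letI := Fintype.ofFinite (borel F m)
  rw [theta, theta, CharInd.classInner_indFun_indFun]
  set q : ℕ := Fintype.card F
  have hin : ∀ x : Cfsg.Sz F m, x ∈ borel F m →
      ∑ h : borel F m, borelLin ν h *
        conj (extendByZero (borel F m) (borelLin μ) (x⁻¹ * h * x)) =
      (if ν = μ then (Nat.card (borel F m) : ℂ) else 0) := by
    intro x hx
    have h1 : ∀ h : borel F m, borelLin ν h *
        conj (extendByZero (borel F m) (borelLin μ) (x⁻¹ * h * x)) =
        (((ν * μ⁻¹).comp (borelProj F m)) h : ℂ) := by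
      intro h
      rw [show x⁻¹ * (h : Cfsg.Sz F m) * x =
        (((⟨x, hx⟩ : borel F m)⁻¹ * h * ⟨x, hx⟩ : borel F m) : Cfsg.Sz F m) from rfl,
        CharInd.extendByZero_coe]
      show (ν (borelProj F m h) : ℂ) * conj ((μ (borelProj F m (_ * h * _)) : ℂ)) = _
      rw [map_mul (borelProj F m), map_mul (borelProj F m), map_inv, inv_mul_cancel_comm,
        conj_unitHom]
      simp
    rw [Finset.sum_congr rfl fun h _ => h1 h, sum_unitHom]
    have hiff : (ν * μ⁻¹).comp (borelProj F m) = 1 ↔ ν = μ := by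
      constructor
      · intro h
        refine MonoidHom.ext fun l => ?_
        obtain ⟨g, rfl⟩ := borelProj_surjective (m := m) l
        have := DFunLike.congr_fun h g
        simpa [mul_inv_eq_one] using this
      · rintro rfl
        exact MonoidHom.ext fun g => by simp
    simp only [hiff]
  have hout : ∀ x : Cfsg.Sz F m, x ∉ borel F m →
      ∑ h : borel F m, borelLin ν h *
        conj (extendByZero (borel F m) (borelLin μ) (x⁻¹ * h * x)) =
      (if ν * μ = 1 then ((q - 1 : ℕ) : ℂ) else 0) := by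
    intro x hx
    rcases bruhat x with ⟨a, b, l, rfl⟩ | ⟨a, b, c, d, k, rfl⟩
    · exact absurd (gT_mul_gD_smul_oInf a b l) hx
    set u : borel F m := ⟨gT a b, gT_smul_oInf a b⟩
    set v : borel F m := ⟨gT c d * gD k, gT_mul_gD_smul_oInf c d k⟩
    rw [← Equiv.sum_comp (MulAut.conj u).toEquiv]
    let e : Fˣ → borel F m := fun l => ⟨gD l, gD_smul_oInf l⟩
    have he : Function.Injective e := fun l l' h => gD_inj (congrArg Subtype.val h)
    rw [← Fintype.sum_of_injective e he
      (fun l => ((ν * μ) l : ℂ)) _ ?_ ?_, sum_unitHom, Nat.card_eq_fintype_card,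
      Fintype.card_units]
    · intro h hh
      have hnot : (gW F m * (h : Cfsg.Sz F m) * gW F m) ∉ borel F m := by
        intro hw
        apply hh
        have hw := mem_stabilizer_iff.1 hw
        rw [mul_smul, mul_smul, gW_smul_oInf] at hw
        have h0 : (h : Cfsg.Sz F m) • oPt F m 0 0 = oPt F m 0 0 := by
          have := congrArg (fun p => gW F m • p) hw
          simp only [← mul_smul, ← mul_assoc, gW_mul_gW, one_mul, one_smul, gW_smul_oInf] at this
          exact this
        obtain ⟨l, hl⟩ := eq_gD_of_fix (mem_stabilizer_iff.1 h.2) h0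
        exact ⟨l, Subtype.ext hl.symm⟩
      rw [CharInd.extendByZero_notMem, map_zero, mul_zero]
      intro hmem
      apply hnot
      have h3 : gW F m * (h : Cfsg.Sz F m) * gW F m = (v : Cfsg.Sz F m) *
          ((gT a b * gW F m * (v : Cfsg.Sz F m))⁻¹ *
            ((MulAut.conj u h : borel F m) : Cfsg.Sz F m) * (gT a b * gW F m * v)) *
          (v : Cfsg.Sz F m)⁻¹ := by
        simp [u, MulAut.conj_apply, gW_inv, mul_assoc]
      rw [h3]
      exact mul_mem (mul_mem v.2 hmem) (inv_mem v.2)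
    · intro l
      have h4 : (gT a b * gW F m * (v : Cfsg.Sz F m))⁻¹ *
          ((MulAut.conj u (e l) : borel F m) : Cfsg.Sz F m) * (gT a b * gW F m * v) =
          ((v⁻¹ * ⟨gD l⁻¹, gD_smul_oInf l⁻¹⟩ * v : borel F m) : Cfsg.Sz F m) := by
        have hw : gW F m * gD l * gW F m = gD l⁻¹ := by
          rw [gW_mul_gD, mul_assoc, gW_mul_gW, mul_one]
        simp only [u, e, MulAut.conj_apply, mul_inv_rev, gW_inv, Subgroup.coe_mul,
          InvMemClass.coe_inv, mul_assoc, inv_mul_cancel_left]
        rw [← mul_assoc (gW F m) (gD l), ← mul_assoc (gW F m * gD l) (gW F m), hw]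
      show _ = borelLin ν (MulAut.conj u (e l)) * conj (extendByZero _ _ ((gT a b * gW F m *
        (v : Cfsg.Sz F m))⁻¹ * ((MulAut.conj u (e l) : borel F m) : Cfsg.Sz F m) *
          (gT a b * gW F m * v)))
      rw [h4, CharInd.extendByZero_coe]
      show _ = (ν (borelProj F m (u * e l * u⁻¹)) : ℂ) *
        conj ((μ (borelProj F m (v⁻¹ * _ * v)) : ℂ))
      have h5 : ∀ l' : Fˣ, borelProj F m ⟨gD l', gD_smul_oInf l'⟩ = l' := fun l' =>
        borelProj_eq (a := 0) (b := 0) (by simp [gT_zero])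
      rw [map_mul (borelProj F m), map_mul (borelProj F m), map_inv, mul_inv_cancel_comm,
        map_mul (borelProj F m), map_mul (borelProj F m), map_inv,
        inv_mul_cancel_comm, h5, h5, conj_unitHom, inv_inv]
      simp
  rw [← Finset.sum_filter_add_sum_filter_not Finset.univ (fun x => x ∈ borel F m),
    Finset.sum_congr rfl (fun x hx => hin x (Finset.mem_filter.1 hx).2),
    Finset.sum_congr rfl (fun x hx => hout x (Finset.mem_filter.1 hx).2),
    Finset.sum_const, Finset.sum_const, nsmul_eq_mul, nsmul_eq_mul]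
  have hc1 : (Finset.univ.filter fun x => x ∈ borel F m).card = Nat.card (borel F m) := by
    rw [← Fintype.card_subtype, ← Nat.card_eq_fintype_card]
  have hc2 : (Finset.univ.filter fun x => x ∉ borel F m).card =
      Nat.card (borel F m) * q ^ 2 := by
    have h := Finset.card_filter_add_card_filter_not (s := (Finset.univ : Finset (Cfsg.Sz F m)))
      (p := fun x => x ∈ borel F m)
    rw [hc1, Finset.card_univ, ← Nat.card_eq_fintype_card, card_sz_borel] at h
    exact Nat.add_left_cancel h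
  rw [hc1, hc2]
  have hB0 : (Nat.card (borel F m) : ℂ) ≠ 0 := Nat.cast_ne_zero.2 Nat.card_pos.ne'
  have hB : (Nat.card (borel F m) : ℂ) = (q : ℂ) ^ 2 * ((q - 1 : ℕ) : ℂ) := by
    rw [card_borel, Nat.cast_mul, Nat.cast_pow]
  split_ifs <;> field_simp <;> push_cast <;> rw [hB] <;> ring

variable (F m) in
/-- The Steinberg character. -/
noncomputable def steinberg : Cfsg.Sz F m → ℂ := theta 1 - fun _ => 1

theorem classInner_theta_one (ν : Fˣ →* ℂˣ) [Decidable (ν = 1)] :
    letI := Fintype.ofFinite (Cfsg.Sz F m)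
    classInner (theta (m := m) ν) (fun _ => 1) = if ν = 1 then 1 else 0 := by
  classical
  letI := Fintype.ofFinite (Cfsg.Sz F m)
  letI := Fintype.ofFinite (borel F m)
  rw [theta, CharInd.classInner_indFun_left _ _ (fun _ _ => rfl), classInner]
  simp only [map_one, mul_one]
  show _ * ∑ h : borel F m, (((ν.comp (borelProj F m)) h : ℂˣ) : ℂ) = _
  rw [sum_unitHom]
  have hiff : ν.comp (borelProj F m) = 1 ↔ ν = 1 := by
    constructor
    · intro h
      refine MonoidHom.ext fun l => ?_
      obtain ⟨g, rfl⟩ := borelProj_surjective (m := m) l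
      exact DFunLike.congr_fun h g
    · rintro rfl; rfl
  simp only [hiff]
  split_ifs
  · exact inv_mul_cancel₀ (Nat.cast_ne_zero.2 Nat.card_pos.ne')
  · exact mul_zero _

theorem sq_ne_one {m : ℕ} [SuzukiField F m] {ν : Fˣ →* ℂˣ} (hν : ν ≠ 1) : ν * ν ≠ 1 := by
  intro h
  refine hν (MonoidHom.ext fun l => ?_)
  obtain ⟨y, hy⟩ := sq_surjective (F := F) (m := m) (l : F)
  have hy0 : y ≠ 0 := fun h0 => l.ne_zero (by rw [← hy, h0]; simp)
  rw [show l = Units.mk0 y hy0 ^ 2 from Units.ext (by simpa using hy.symm), map_pow, sq]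
  exact DFunLike.congr_fun h _

theorem theta_irr {ν : Fˣ →* ℂˣ} (hν : ν ≠ 1) :
    IsIrrCharacter (Cfsg.Sz F m) (theta (m := m) ν) := by
  classical
  letI := Fintype.ofFinite (Cfsg.Sz F m)
  refine Char.isIrrCharacter_iff_classInner.2 ⟨theta_isCharacter ν, ?_⟩
  rw [classInner_theta, if_pos rfl, if_neg (sq_ne_one (m := m) hν), add_zero]

theorem theta_inv {ν : Fˣ →* ℂˣ} (hν : ν ≠ 1) : theta (m := m) ν⁻¹ = theta ν := by
  classical
  letI := Fintype.ofFinite (Cfsg.Sz F m)
  by_contra hne
  have hi : ν⁻¹ ≠ 1 := fun h => hν (MonoidHom.ext fun x => inv_eq_one.1 (DFunLike.congr_fun h x))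
  have hsame : ν⁻¹ ≠ ν := fun h => sq_ne_one (m := m) hν (MonoidHom.ext fun x =>
    (congrArg (· * ν x) (DFunLike.congr_fun h x).symm).trans (show (ν x)⁻¹ * ν x = 1 from inv_mul_cancel (ν x)))
  have h := Char.classInner_irr_ne (theta_irr (m := m) hi) (theta_irr hν) hne
  rw [classInner_theta, if_neg hsame, if_pos (MonoidHom.ext fun x => inv_mul_cancel (ν x)),
    zero_add] at h
  exact one_ne_zero h

theorem steinberg_one : steinberg F m 1 = (Fintype.card F : ℂ) ^ 2 := by
  rw [steinberg, Pi.sub_apply, theta_one, add_sub_cancel_right]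

theorem steinberg_irr : IsIrrCharacter (Cfsg.Sz F m) (steinberg F m) := by
  classical
  letI := Fintype.ofFinite (Cfsg.Sz F m)
  have h11 : classInner (fun _ : Cfsg.Sz F m => (1 : ℂ)) (fun _ => 1) = 1 :=
    Char.classInner_irr_self Char.isIrrCharacter_const_one
  have hself : classInner (theta (m := m) (1 : Fˣ →* ℂˣ)) (theta 1) = 2 := by
    rw [classInner_theta, if_pos rfl, if_pos (MonoidHom.ext fun x => one_mul _)]; norm_num
  have hcross : classInner (theta (m := m) (1 : Fˣ →* ℂˣ)) (fun _ => 1) = 1 := by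
    rw [classInner_theta_one, if_pos rfl]
  have hnorm : classInner (steinberg F m) (steinberg F m) = 1 := by
    simp only [steinberg, Char.classInner_sub_left, Char.classInner_sub_right, hself, hcross, h11]
    rw [← Char.classInner_conj (theta (m := m) (1 : Fˣ →* ℂˣ)) (fun _ => 1), hcross, map_one]
    norm_num
  rcases Char.generalized_norm_one (Char.isGeneralizedCharacter_sub
    (Char.isGeneralizedCharacter_of_isCharacter (theta_isCharacter 1))
    (Char.isGeneralizedCharacter_of_irr Char.isIrrCharacter_const_one)) hnorm with h | h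
  · exact h
  · exfalso
    obtain ⟨n, hn, hn'⟩ := Char.irr_one_pos h
    have h1 : -steinberg F m 1 = (n : ℂ) := hn'
    rw [steinberg_one] at h1
    have h2 : ((n + Fintype.card F ^ 2 : ℕ) : ℂ) = 0 := by push_cast; rw [← h1]; ring
    have h3 : n + Fintype.card F ^ 2 = 0 := by exact_mod_cast h2
    omega

/-! ### A linear character of the unipotent group -/

theorem exists_fstCoord (g : unip F m) : ∃ a b : F, (g : Cfsg.Sz F m) = gT a b := g.2

variable (F m) in
/-- The first coordinate on the unipotent group. -/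
noncomputable def fstCoord : unip F m →* Multiplicative F where
  toFun g := Multiplicative.ofAdd (exists_fstCoord g).choose
  map_one' := by
    obtain ⟨b, h⟩ := (exists_fstCoord (1 : unip F m)).choose_spec
    exact congrArg Multiplicative.ofAdd (gT_eq_one h.symm).1
  map_mul' g g' := by
    obtain ⟨b, h⟩ := (exists_fstCoord (g * g')).choose_spec
    obtain ⟨d, hg⟩ := (exists_fstCoord g).choose_spec
    obtain ⟨d', hg'⟩ := (exists_fstCoord g').choose_spec
    exact congrArg Multiplicative.ofAdd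
      (gT_inj (h.symm.trans ((congrArg₂ (· * ·) hg hg').trans (gT_mul _ _ _ _)))).1

theorem fstCoord_eq {g : unip F m} {a b : F} (h : (g : Cfsg.Sz F m) = gT a b) :
    fstCoord F m g = Multiplicative.ofAdd a := by
  obtain ⟨d, hd⟩ := (exists_fstCoord g).choose_spec
  exact congrArg Multiplicative.ofAdd (gT_inj (hd.symm.trans h)).1

variable (F) in
theorem exists_fieldHom : ∃ ψ : Multiplicative F →* ℂˣ, ψ ≠ 1 := by
  obtain ⟨ψ, hψ⟩ := CommGroup.exists_apply_ne_one_of_hasEnoughRootsOfUnity (Multiplicative F) ℂ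
    (a := Multiplicative.ofAdd (1 : F)) (fun h => one_ne_zero (congrArg Multiplicative.toAdd h))
  exact ⟨ψ, fun h => hψ (by rw [h]; rfl)⟩

variable (F m) in
/-- The fixed non-trivial linear character of the unipotent group. -/
noncomputable def unipLin : unip F m →* ℂˣ := (exists_fieldHom F).choose.comp (fstCoord F m)

theorem unipLin_ne_one : unipLin F m ≠ 1 := by
  intro h
  apply (exists_fieldHom F).choose_spec
  refine MonoidHom.ext fun a => ?_
  have := DFunLike.congr_fun h ⟨gT (Multiplicative.toAdd a) 0, gT_mem_unip _ _⟩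
  rw [unipLin, MonoidHom.comp_apply, fstCoord_eq (b := 0) rfl] at this
  exact this

/-- Conjugation by an element of the torus moves the character. -/
theorem sum_unipLin_conj (c d : F) (k : Fˣ) [Fintype (unip F m)] [Decidable (k = 1)] :
    ∑ h : unip F m, (unipLin F m h : ℂ) *
      conj (extendByZero (unip F m) (fun g => (unipLin F m g : ℂ))
        ((gT c d * gD k)⁻¹ * h * (gT c d * gD k))) =
      (if k = 1 then (Nat.card (unip F m) : ℂ) else 0) := by
  classical
  have hB : (gT c d * gD k : Cfsg.Sz F m) ∈ borel F m := gT_mul_gD_smul_oInf c d k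
  have hmem : ∀ h : unip F m, (gT c d * gD k)⁻¹ * (h : Cfsg.Sz F m) * (gT c d * gD k) ∈
      unip F m := fun h => by
    obtain ⟨a, b, hab⟩ := h.2
    rw [hab]
    have := conj_gT_mem_unip (g := (gT c d * gD k)⁻¹) (inv_mem hB) a b
    rwa [inv_inv] at this
  let κ : unip F m →* unip F m :=
    { toFun := fun h => ⟨_, hmem h⟩
      map_one' := Subtype.ext (by simp)
      map_mul' := fun h h' => Subtype.ext (by simp [mul_assoc]) }
  have h1 : ∀ h : unip F m, (unipLin F m h : ℂ) *
      conj (extendByZero (unip F m) (fun g => (unipLin F m g : ℂ))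
        ((gT c d * gD k)⁻¹ * h * (gT c d * gD k))) =
      (((unipLin F m) * ((unipLin F m).comp κ)⁻¹) h : ℂ) := fun h => by
    rw [CharInd.extendByZero_mem _ _ (hmem h), conj_unitHom]
    simp [κ]
  rw [Finset.sum_congr rfl fun h _ => h1 h, sum_unitHom]
  have hκ : ∀ (h : unip F m) (a b : F), (h : Cfsg.Sz F m) = gT a b →
      fstCoord F m (κ h) = Multiplicative.ofAdd (((k⁻¹ : Fˣ) : F) ^ 2 * a) := by
    intro h a b hab
    obtain ⟨a', b', he⟩ : ∃ a' b', (κ h : Cfsg.Sz F m) = gT a' b' := (κ h).2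
    have h2 : gT c d * gD k * gT a' b' = gT a b * (gT c d * gD k : Cfsg.Sz F m) := by
      rw [← he]
      show _ * ((gT c d * gD k)⁻¹ * (h : Cfsg.Sz F m) * (gT c d * gD k)) = _
      rw [hab]
      group
    rw [mul_assoc, gD_conj_gT, ← mul_assoc, gT_mul, ← mul_assoc (gT a b), gT_mul] at h2
    obtain ⟨h3, -, -⟩ := gT_mul_gD_inj h2
    rw [fstCoord_eq he]
    congr 1
    have hk : (k : F) ≠ 0 := k.ne_zero
    have h4 : (k : F) ^ 2 * a' = a := by
      have h5 : c + (k : F) ^ 2 * a' = c + a := by rw [h3, add_comm]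
      exact add_left_cancel h5
    rw [← h4, Units.val_inv_eq_inv_val]
    field_simp
  have hiff : unipLin F m * ((unipLin F m).comp κ)⁻¹ = 1 ↔ k = 1 := by
    constructor
    · intro h
      by_contra hk
      apply (exists_fieldHom F).choose_spec
      refine MonoidHom.ext fun z => ?_
      set t : F := 1 - ((k⁻¹ : Fˣ) : F) ^ 2 with ht
      have ht0 : t ≠ 0 := fun h0 => hk (by
        have := sq_eq_one (m := m) (sub_eq_zero.1 h0).symm
        exact inv_eq_one.1 (Units.ext this))
      set a : F := t⁻¹ * Multiplicative.toAdd z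
      have h1 := DFunLike.congr_fun h ⟨gT a 0, gT_mem_unip _ _⟩
      simp only [unipLin, MonoidHom.mul_apply, MonoidHom.inv_apply, MonoidHom.comp_apply,
        MonoidHom.one_apply] at h1
      rw [hκ _ a 0 rfl, fstCoord_eq (a := a) (b := 0) rfl, ← map_inv, ← map_mul, ← ofAdd_neg,
        ← ofAdd_add] at h1
      rw [MonoidHom.one_apply, ← h1]
      congr 1
      have h6 : a + -(((k⁻¹ : Fˣ) : F) ^ 2 * a) = Multiplicative.toAdd z := by
        calc a + -(((k⁻¹ : Fˣ) : F) ^ 2 * a) = t * a := by rw [ht]; ring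
          _ = Multiplicative.toAdd z := mul_inv_cancel_left₀ ht0 _
      rw [h6]
      rfl
    · rintro rfl
      refine MonoidHom.ext fun h => ?_
      obtain ⟨a, b, hab⟩ := exists_fstCoord h
      simp only [unipLin, MonoidHom.mul_apply, MonoidHom.inv_apply, MonoidHom.comp_apply,
        MonoidHom.one_apply, hκ h a b hab, fstCoord_eq hab]
      simp
  simp only [hiff]

/-- The norm of the induced character. -/
theorem norm_indUnipLin :
    letI := Fintype.ofFinite (Cfsg.Sz F m)
    classInner (indFun (unip F m) fun g => (unipLin F m g : ℂ))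
      (indFun (unip F m) fun g => (unipLin F m g : ℂ)) = (Fintype.card F : ℂ) := by
  classical
  letI := Fintype.ofFinite (Cfsg.Sz F m)
  letI := Fintype.ofFinite (unip F m)
  rw [CharInd.classInner_indFun_indFun]
  set q : ℕ := Fintype.card F
  have hout : ∀ x : Cfsg.Sz F m, x ∉ borel F m →
      ∑ h : unip F m, (unipLin F m h : ℂ) *
        conj (extendByZero (unip F m) (fun g => (unipLin F m g : ℂ)) (x⁻¹ * h * x)) = 1 := by
    intro x hx
    rw [Finset.sum_eq_single (1 : unip F m)]
    · rw [show x⁻¹ * ((1 : unip F m) : Cfsg.Sz F m) * x = ((1 : unip F m) : Cfsg.Sz F m) by simp,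
        CharInd.extendByZero_coe]
      simp only [map_one, Units.val_one, mul_one]
    · intro h _ hh
      rw [CharInd.extendByZero_notMem, map_zero, mul_zero]
      rintro ⟨c, d, hcd⟩
      obtain ⟨a, b, hab⟩ := h.2
      have hne : a ≠ 0 ∨ b ≠ 0 := by
        by_contra h0
        simp only [not_or, not_not] at h0
        exact hh (Subtype.ext (by rw [hab, h0.1, h0.2, gT_zero]; rfl))
      apply hx
      refine mem_stabilizer_iff.2 (fix_of_unip hne ?_)
      have h1 : (x⁻¹ * (h : Cfsg.Sz F m) * x) • oInf F m = oInf F m := by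
        rw [hcd, gT_smul_oInf]
      rw [mul_smul, mul_smul, inv_smul_eq_iff, hab] at h1
      exact h1
    · simp
  have hin : ∀ x : Cfsg.Sz F m, x ∈ borel F m →
      ∑ h : unip F m, (unipLin F m h : ℂ) *
        conj (extendByZero (unip F m) (fun g => (unipLin F m g : ℂ)) (x⁻¹ * h * x)) =
      (if x ∈ unip F m then (Nat.card (unip F m) : ℂ) else 0) := by
    intro x hx
    obtain ⟨c, d, k, rfl⟩ := exists_gT_gD_of_fix (mem_stabilizer_iff.1 hx)
    rw [sum_unipLin_conj]
    have : k = 1 ↔ (gT c d * gD k : Cfsg.Sz F m) ∈ unip F m := by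
      constructor
      · rintro rfl; rw [gD_one, mul_one]; exact gT_mem_unip c d
      · rintro ⟨a, b, h⟩
        exact (gT_mul_gD_inj (l := 1) (c := a) (d := b) (by rw [h, gD_one, mul_one])).2.2
    simp only [this]
  rw [← Finset.sum_filter_add_sum_filter_not Finset.univ (fun x => x ∈ borel F m),
    Finset.sum_congr rfl (fun x hx => hin x (Finset.mem_filter.1 hx).2),
    Finset.sum_congr rfl (fun x hx => hout x (Finset.mem_filter.1 hx).2),
    ← Finset.sum_filter, Finset.filter_filter, Finset.sum_const, Finset.sum_const,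
    nsmul_eq_mul, nsmul_eq_mul]
  have hc0 : (Finset.univ.filter fun x => x ∈ borel F m ∧ x ∈ unip F m).card = q ^ 2 := by
    rw [Finset.filter_congr (q := fun x => x ∈ unip F m) (fun x _ => ⟨fun h => h.2, fun h => ⟨by
      obtain ⟨a, b, rfl⟩ := h
      exact gT_smul_oInf a b, h⟩⟩), ← Fintype.card_subtype, ← Nat.card_eq_fintype_card]
    exact card_unip
  have hc2 : (Finset.univ.filter fun x => x ∉ borel F m).card = q ^ 2 * (q - 1) * q ^ 2 := by
    have hc1 : (Finset.univ.filter fun x => x ∈ borel F m).card = Nat.card (borel F m) := by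
      rw [← Fintype.card_subtype, ← Nat.card_eq_fintype_card]
    have h := Finset.card_filter_add_card_filter_not (s := (Finset.univ : Finset (Cfsg.Sz F m)))
      (p := fun x => x ∈ borel F m)
    rw [hc1, Finset.card_univ, ← Nat.card_eq_fintype_card, card_sz_borel, card_borel] at h
    exact Nat.add_left_cancel h
  rw [hc0, hc2, card_unip]
  have h1q : 1 ≤ q := Fintype.card_pos
  have hq0 : (q : ℂ) ≠ 0 := Nat.cast_ne_zero.2 (by omega)
  push_cast [h1q]
  field_simp
  ring

/-- The multiplicity of the fixed character in a restriction. -/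
theorem classInner_res_unip (f : Cfsg.Sz F m → ℂ) (hf : ∀ p ∈ unip F m, p ≠ 1 → f p = f (gT 1 0)) :
    letI := Fintype.ofFinite (unip F m)
    (Fintype.card F : ℂ) ^ 2 * classInner (fun p : unip F m => f p)
      (fun p => (unipLin F m p : ℂ)) = f 1 - f (gT 1 0) := by
  classical
  letI := Fintype.ofFinite (unip F m)
  rw [classInner, ← mul_assoc, card_unip, Nat.cast_pow,
    mul_inv_cancel₀ (pow_ne_zero _ (Nat.cast_ne_zero.2 Fintype.card_ne_zero)), one_mul]
  have h1 : ∀ p : unip F m, f p * conj (unipLin F m p : ℂ) =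
      f (gT 1 0) * ((unipLin F m)⁻¹ p : ℂ) + (if p = 1 then f 1 - f (gT 1 0) else 0) := fun p => by
    rw [conj_unitHom, map_inv, ← MonoidHom.inv_apply]
    split_ifs with h
    · subst h; simp
    · rw [hf p p.2 (fun h' => h (Subtype.ext h')), add_zero]
  rw [Finset.sum_congr rfl fun p _ => h1 p, Finset.sum_add_distrib, ← Finset.mul_sum,
    Char.monoidHom_sum_eq_zero (f := (unipLin F m)⁻¹) (fun h => unipLin_ne_one (MonoidHom.ext fun x => inv_eq_one.1 (DFunLike.congr_fun h x))), mul_zero, zero_add,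
    Finset.sum_ite_eq', if_pos (Finset.mem_univ _)]

theorem gT_one_ne_one : (gT 1 0 : Cfsg.Sz F m) ≠ 1 := fun h => one_ne_zero (gT_eq_one h).1

theorem aMult_theta (ν : Fˣ →* ℂˣ) :
    letI := Fintype.ofFinite (unip F m)
    classInner (fun p : unip F m => theta (m := m) ν p) (fun p => (unipLin F m p : ℂ)) = 1 := by
  have h := classInner_res_unip (theta (m := m) ν) fun p hp hp1 => by
    rw [theta_unip ν hp hp1, theta_unip ν (gT_mem_unip 1 0) gT_one_ne_one]
  rw [theta_one, theta_unip ν (gT_mem_unip 1 0) gT_one_ne_one, add_sub_cancel_right] at h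
  exact mul_left_cancel₀ (pow_ne_zero _ (Nat.cast_ne_zero.2 Fintype.card_ne_zero))
    (h.trans (mul_one _).symm)

theorem aMult_steinberg :
    letI := Fintype.ofFinite (unip F m)
    classInner (fun p : unip F m => steinberg F m p) (fun p => (unipLin F m p : ℂ)) = 1 := by
  have h0 : ∀ p ∈ unip F m, p ≠ 1 → steinberg F m p = 0 := fun p hp hp1 => by
    rw [steinberg, Pi.sub_apply, theta_unip 1 hp hp1, sub_self]
  have h := classInner_res_unip (steinberg F m) fun p hp hp1 => by
    rw [h0 p hp hp1, h0 _ (gT_mem_unip 1 0) gT_one_ne_one]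
  rw [steinberg_one, h0 _ (gT_mem_unip 1 0) gT_one_ne_one, sub_zero] at h
  exact mul_left_cancel₀ (pow_ne_zero _ (Nat.cast_ne_zero.2 Fintype.card_ne_zero))
    (h.trans (mul_one _).symm)

/-! ### The degrees of the remaining characters -/

theorem sum_dual (x : Fˣ) [Fintype (Fˣ →* ℂˣ)] [Decidable (x = 1)] :
    ∑ ν : Fˣ →* ℂˣ, (ν x : ℂ) = if x = 1 then (Fintype.card (Fˣ →* ℂˣ) : ℂ) else 0 := by
  split_ifs with h
  · subst h; simp
  · obtain ⟨ν₀, hν₀⟩ := CommGroup.exists_apply_ne_one_of_hasEnoughRootsOfUnity Fˣ ℂ h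
    have h1 : (ν₀ x : ℂ) * ∑ ν : Fˣ →* ℂˣ, (ν x : ℂ) = ∑ ν : Fˣ →* ℂˣ, (ν x : ℂ) := by
      rw [Finset.mul_sum, ← Equiv.sum_comp (Equiv.mulLeft ν₀) fun ν => (ν x : ℂ)]
      exact Finset.sum_congr rfl fun ν _ => by simp
    have h2 : ((ν₀ x : ℂ) - 1) * ∑ ν : Fˣ →* ℂˣ, (ν x : ℂ) = 0 := by
      rw [sub_mul, h1, one_mul, sub_self]
    rcases mul_eq_zero.1 h2 with h3 | h3
    · exact absurd (Units.ext (sub_eq_zero.1 h3)) hν₀
    · exact h3

/-- An irreducible character orthogonal to all the induced linear ones has degree divisible by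
`q - 1`. -/
theorem card_sub_one_dvd {χ : Cfsg.Sz F m → ℂ} (hχ : IsIrrCharacter (Cfsg.Sz F m) χ)
    (h : ∀ ν : Fˣ →* ℂˣ, letI := Fintype.ofFinite (Cfsg.Sz F m)
      classInner χ (theta (m := m) ν) = 0) :
    Fintype.card F - 1 ∣ charDegree χ := by
  classical
  letI := Fintype.ofFinite (Cfsg.Sz F m)
  letI := Fintype.ofFinite (borel F m)
  haveI : Finite (Fˣ →* ℂˣ) := Char.monoidHom_complex_finite
  letI := Fintype.ofFinite (Fˣ →* ℂˣ)
  have hcl := Char.irr_isClassFunction hχ
  let e : (F × F) × Fˣ → borel F m := fun x =>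
    ⟨gT x.1.1 x.1.2 * gD x.2, gT_mul_gD_smul_oInf _ _ _⟩
  have he : Function.Bijective e := by
    refine ⟨fun x y h => ?_, fun g => ?_⟩
    · obtain ⟨h1, h2, h3⟩ := gT_mul_gD_inj (congrArg Subtype.val h)
      exact Prod.ext (Prod.ext h1 h2) h3
    · obtain ⟨a, b, l, h⟩ := exists_gT_gD_of_fix (mem_stabilizer_iff.1 g.2)
      exact ⟨((a, b), l), Subtype.ext h.symm⟩
  set S : Fˣ → ℂ := fun l => ∑ ab : F × F, χ (gT ab.1 ab.2 * gD l) with hS'
  have hν : ∀ ν : Fˣ →* ℂˣ, ∑ l : Fˣ, S l * (ν l⁻¹ : ℂ) = 0 := by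
    intro ν
    have h0 := h ν
    rw [theta, CharInd.classInner_indFun_right _ _ hcl, classInner, mul_eq_zero] at h0
    have h1 := h0.resolve_left (inv_ne_zero (Nat.cast_ne_zero.2 Nat.card_pos.ne'))
    rw [← (Equiv.ofBijective e he).sum_comp, Fintype.sum_prod_type_right] at h1
    rw [← h1]
    refine Finset.sum_congr rfl fun l _ => ?_
    rw [hS', Finset.sum_mul]
    refine Finset.sum_congr rfl fun ab _ => ?_
    show _ = χ (gT ab.1 ab.2 * gD l) * conj ((ν (borelProj F m (e (ab, l))) : ℂ))
    rw [borelProj_eq (g := e (ab, l)) rfl, conj_unitHom]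
  have hS0 : ∀ t : Fˣ, S t = 0 := by
    intro t
    have h1 : ∑ ν : Fˣ →* ℂˣ, (ν t : ℂ) * ∑ l : Fˣ, S l * (ν l⁻¹ : ℂ) = 0 :=
      Finset.sum_eq_zero fun ν _ => by rw [hν ν, mul_zero]
    simp only [Finset.mul_sum] at h1
    rw [Finset.sum_comm] at h1
    have h2 : ∀ l : Fˣ, ∑ ν : Fˣ →* ℂˣ, (ν t : ℂ) * (S l * (ν l⁻¹ : ℂ)) =
        if l = t then (Fintype.card (Fˣ →* ℂˣ) : ℂ) * S l else 0 := by
      intro l
      have h3 : ∀ ν : Fˣ →* ℂˣ, (ν t : ℂ) * (S l * (ν l⁻¹ : ℂ)) = S l * (ν (t * l⁻¹) : ℂ) :=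
        fun ν => by rw [map_mul ν t, Units.val_mul]; ring
      rw [Finset.sum_congr rfl fun ν _ => h3 ν, ← Finset.mul_sum, sum_dual]
      simp only [mul_inv_eq_one, eq_comm (a := t)]
      split_ifs <;> ring
    rw [Finset.sum_congr rfl fun l _ => h2 l, Finset.sum_ite_eq', if_pos (Finset.mem_univ _),
      mul_eq_zero] at h1
    exact h1.resolve_left (Nat.cast_ne_zero.2 Fintype.card_ne_zero)
  have htor : ∀ t : Fˣ, t ≠ 1 → χ (gD t) = 0 := by
    intro t ht
    have h1 : ∀ a b : F, χ (gT a b * gD t) = χ (gD t) := by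
      let f : F × F → F × F := fun cd =>
        ((Equiv.ofBijective e he).symm
          (⟨gT cd.1 cd.2, gT_smul_oInf _ _⟩ * ⟨gD t, gD_smul_oInf t⟩ *
            ⟨gT cd.1 cd.2, gT_smul_oInf _ _⟩⁻¹)).1
      have hf : ∀ cd, (gT cd.1 cd.2 * gD t * (gT cd.1 cd.2)⁻¹ : Cfsg.Sz F m) =
          gT (f cd).1 (f cd).2 * gD t := by
        intro cd
        set x := (Equiv.ofBijective e he).symm
          (⟨gT cd.1 cd.2, gT_smul_oInf _ _⟩ * ⟨gD t, gD_smul_oInf t⟩ *
            ⟨gT cd.1 cd.2, gT_smul_oInf _ _⟩⁻¹) with hx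
        have h2 : e x = _ := (Equiv.ofBijective e he).apply_symm_apply _
        have h2' : (gT x.1.1 x.1.2 * gD x.2 : Cfsg.Sz F m) =
            gT cd.1 cd.2 * gD t * (gT cd.1 cd.2)⁻¹ := congrArg Subtype.val h2
        have h4 : x.2 = t := by
          have h5 : borelProj F m (e x) = x.2 := borelProj_eq rfl
          rw [h2, map_mul, map_mul, map_inv, mul_inv_cancel_comm,
            borelProj_eq (a := 0) (b := 0) (l := t) (by simp [gT_zero])] at h5
          exact h5.symm
        rw [h4] at h2'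
        exact h2'.symm
      have hinj : Function.Injective f := by
        intro x y hxy
        have h2 : (gT x.1 x.2 * gD t * (gT x.1 x.2)⁻¹ : Cfsg.Sz F m) =
            gT y.1 y.2 * gD t * (gT y.1 y.2)⁻¹ := by rw [hf x, hf y, hxy]
        have h3 : gD t * ((gT x.1 x.2)⁻¹ * gT y.1 y.2) =
            ((gT x.1 x.2)⁻¹ * gT y.1 y.2 : Cfsg.Sz F m) * gD t := by
          have := congrArg (fun g => (gT x.1 x.2)⁻¹ * g * gT y.1 y.2) h2
          simp only [mul_assoc, inv_mul_cancel_left, inv_mul_cancel, mul_one] at this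
          rw [this, mul_assoc]
        obtain ⟨c, d, hcd⟩ : ((gT x.1 x.2)⁻¹ * gT y.1 y.2 : Cfsg.Sz F m) ∈ unip F m :=
          mul_mem (inv_mem (gT_mem_unip _ _)) (gT_mem_unip _ _)
        rw [hcd] at h3
        have h4 : (gD t : Cfsg.Sz F m) • gT c d • oPt F m 0 0 = gT c d • oPt F m 0 0 := by
          rw [← mul_smul, h3, mul_smul, gD_smul_oPt]; simp
        have h5 : c = 0 ∧ d = 0 := by
          rcases fix_of_torus ht h4 with h6 | h6
          · exfalso
            rw [gT_smul_oPt] at h6
            exact oPt_ne_oInf _ _ h6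
          · rw [gT_smul_oPt] at h6
            obtain ⟨h7, h8⟩ := oPt_inj h6
            simp only [zero_add] at h7
            subst h7
            simpa using h8
        rw [h5.1, h5.2, gT_zero, inv_mul_eq_one] at hcd
        exact Prod.ext (gT_inj hcd).1 (gT_inj hcd).2
      intro a b
      obtain ⟨cd, hcd⟩ := (Finite.injective_iff_surjective.1 hinj) (a, b)
      have h2 := hf cd
      rw [hcd] at h2
      rw [← h2, hcl]
    have h2 := hS0 t
    rw [hS'] at h2
    simp only [h1, Finset.sum_const, Finset.card_univ, nsmul_eq_mul, mul_eq_zero] at h2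
    exact h2.resolve_left (Nat.cast_ne_zero.2 Fintype.card_ne_zero)
  obtain ⟨n, hn⟩ := Char.isCharacter_classInner_nat
    (Char.isCharacter_comp (Char.isCharacter_of_irr hχ) (gDHom F m)) (Char.trivialIrr Fˣ)
  refine ⟨n, ?_⟩
  have h1 : (Nat.card Fˣ : ℂ) * n = charDegree χ := by
    rw [← hn, CharInd.classInner_congr_card, Finset.sum_eq_single (1 : Fˣ)]
    · show χ (gDHom F m 1) * conj (1 : ℂ) = _
      rw [map_one, map_one, mul_one, (irr_charDegree_spec hχ).2]
    · intro t _ ht
      show χ (gDHom F m t) * _ = 0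
      rw [show gDHom F m t = gD t from rfl, htor t ht, zero_mul]
    · simp
  rw [Nat.card_eq_fintype_card, Fintype.card_units] at h1
  exact_mod_cast h1.symm

end Cfsg.Agent.SzChar
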