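import Cfsg.Agent.SzChar.Table

/-!
# Columns of the character table of the Suzuki groups
-/

set_option autoImplicit false
set_option linter.unusedSectionVars false
set_option linter.style.haveILetI false

namespace Cfsg.Agent.SzChar

open Cfsg Cfsg.Agent.Suzuki MulAction
open scoped ComplexConjugate

variable {F : Type*} [Field F] [Fintype F] {m : ℕ} [hS : SuzukiField F m]

variable (F) in
/-- The order of the field as a real number. -/
noncomputable abbrev rq : ℝ := (Fintype.card F : ℝ)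

variable (m) in
/-- `2 ^ m` as a real number. -/
noncomputable abbrev rs : ℝ := ((2 ^ m : ℕ) : ℝ)

theorem rq_eq : rq F = 2 * rs m ^ 2 := by
  rw [rq, rs, hS.card]; push_cast; rw [pow_succ, mul_comm 2 m, pow_mul]; ring

include hS in
theorem two_le_rs : 2 ≤ rs m := by
  have : 2 ^ 1 ≤ 2 ^ m := Nat.pow_le_pow_right (by norm_num) hS.one_le
  exact_mod_cast this

theorem exists_conj_invol {b b' : F} (hb : b ≠ 0) (hb' : b' ≠ 0) :
    ∃ k : Cfsg.Sz F m, k * gT 0 b * k⁻¹ = gT 0 b' := by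
  let f : Fˣ →* Fˣ := MonoidHom.mk' (fun l => (Units.map (th F m).toMonoidHom l * l) ^ 2)
    fun k l => by
      rw [map_mul, mul_mul_mul_comm, mul_pow]
  have hf : Function.Injective f := by
    refine (injective_iff_map_eq_one f).2 fun l hl => Units.ext ?_
    have h := congrArg Units.val hl
    simp only [f, MonoidHom.mk'_apply, Units.val_pow_eq_pow_val, Units.val_mul, Units.coe_map,
      Units.val_one] at h
    exact th_mul_self_eq_one (sq_eq_one (m := m) h)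
  obtain ⟨l, hl⟩ := (Finite.injective_iff_surjective.1 hf) (Units.mk0 b' hb' / Units.mk0 b hb)
  refine ⟨gD l, ?_⟩
  have h := congrArg Units.val hl
  simp only [f, MonoidHom.mk'_apply, Units.val_pow_eq_pow_val, Units.val_mul, Units.coe_map,
    Units.val_div_eq_div_val, Units.val_mk0] at h
  rw [gD_conj_gT, mul_inv_cancel_right, mul_zero]
  congr 1
  change (th F m (l : F) * (l : F)) ^ 2 = b' / b at h
  rw [← mul_pow, h, div_mul_cancel₀ _ hb]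

theorem gT_zero_ne_one {b : F} (hb : b ≠ 0) : (gT 0 b : Cfsg.Sz F m) ≠ 1 := fun h =>
  hb (gT_eq_one h).2

theorem gT_ne_one_of_left {a : F} (ha : a ≠ 0) (b : F) : (gT a b : Cfsg.Sz F m) ≠ 1 := fun h =>
  ha (gT_eq_one h).1

theorem card_centralizer_four {a : F} (ha : a ≠ 0) (b : F) :
    Nat.card (Subgroup.centralizer ({gT a b} : Set (Cfsg.Sz F m))) ≤ 2 * Fintype.card F := by
  classical
  have hcomm : ∀ z : Bool × F, (gT (if z.1 then a else 0) z.2 : Cfsg.Sz F m) ∈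
      Subgroup.centralizer ({gT a b} : Set (Cfsg.Sz F m)) := by
    rintro ⟨i, d⟩
    rw [Subgroup.mem_centralizer_singleton_iff]
    exact (gT_commute_iff.2 (by cases i <;> simp)).eq.symm
  let φ : Bool × F → Subgroup.centralizer ({gT a b} : Set (Cfsg.Sz F m)) := fun z => ⟨_, hcomm z⟩
  have hφ : Function.Surjective φ := by
    rintro ⟨g, hg⟩
    obtain ⟨c, d, rfl⟩ := centralizer_unip_le (gT_mem_unip a b) (gT_ne_one_of_left ha b) hg
    have h := gT_commute_iff.1 (show Commute (gT c d : Cfsg.Sz F m) (gT a b) from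
      Subgroup.mem_centralizer_singleton_iff.1 hg)
    by_cases hc : c = 0
    · exact ⟨(false, d), Subtype.ext (by simp [φ, hc])⟩
    · have h1 : th F m (c / a) = c / a := by
        rw [map_div₀, div_eq_div_iff ((map_ne_zero _).2 ha) ha]
        linear_combination h
      rcases th_eq_self h1 with h2 | h2
      · simp [hc, ha] at h2
      · rw [div_eq_one_iff_eq ha] at h2
        exact ⟨(true, d), Subtype.ext (by simp [φ, h2])⟩
  refine (Nat.card_le_card_of_surjective φ hφ).trans (le_of_eq ?_)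
  simp [Nat.card_eq_fintype_card]

theorem card_centralizer_unip_le {g : Cfsg.Sz F m} (hg : g ∈ unip F m) (h1 : g ≠ 1) :
    Nat.card (Subgroup.centralizer ({g} : Set (Cfsg.Sz F m))) ≤ Fintype.card F ^ 2 :=
  (Subgroup.card_le_of_le (centralizer_unip_le hg h1)).trans (le_of_eq card_unip)

theorem exists_int_invol {G : Type*} [Group G] [Finite G] {χ : G → ℂ} (hχ : IsCharacter G χ)
    {g : G} (hg : orderOf g = 2) : ∃ v : ℤ, χ g = (v : ℂ) := by
  classical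
  obtain ⟨n, ρ, rfl⟩ := hχ
  obtain ⟨η, hη, hpow⟩ := Char.exists_character_eq_sum_roots ρ g
  refine ⟨∑ i, if η i = 1 then 1 else -1, ?_⟩
  have h1 := hpow 1
  simp only [pow_one] at h1
  rw [h1, Int.cast_sum]
  refine Finset.sum_congr rfl fun i _ => ?_
  split_ifs with h
  · rw [h, Int.cast_one]
  · have h2 := hη i
    rw [hg, sq_eq_one_iff] at h2
    rw [h2.resolve_left h]
    simp

namespace Table

variable (T : Table F m)

theorem cardA_real : (Nat.card T.A : ℝ) = rq F + 2 * rs m + 1 := by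
  rw [T.cardA]; push_cast; ring

theorem cardB_real : (Nat.card T.B : ℝ) = rq F - 2 * rs m + 1 := by
  have h := congrArg (fun n : ℕ => (n : ℝ)) T.cardB
  push_cast at h
  rw [rq, rs]; push_cast; linarith

theorem cardPS_real : (T.PS.card : ℝ) = (rq F - 2) / 2 := by
  have h := congrArg (fun n : ℕ => (n : ℝ)) T.cardPS
  push_cast at h
  rw [rq]; linarith

theorem cardXS_real : (T.XS.card : ℝ) = (rq F + 2 * rs m) / 4 := by
  have h := congrArg (fun n : ℕ => (n : ℝ)) T.cardXS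
  push_cast at h
  have h2 := T.cardA_real
  linarith

theorem cardYS_real : (T.YS.card : ℝ) = (rq F - 2 * rs m) / 4 := by
  have h := congrArg (fun n : ℕ => (n : ℝ)) T.cardYS
  push_cast at h
  linarith [T.cardB_real]

theorem col_norm (g : Cfsg.Sz F m) :
    1 + ‖(T.χS : Cfsg.Sz F m → ℂ) g‖ ^ 2 + ∑ θ ∈ T.PS, ‖(θ : Cfsg.Sz F m → ℂ) g‖ ^ 2 +
      (‖(T.U : Cfsg.Sz F m → ℂ) g‖ ^ 2 + ‖(T.V : Cfsg.Sz F m → ℂ) g‖ ^ 2 +
        ∑ χ ∈ T.XS, ‖(χ : Cfsg.Sz F m → ℂ) g‖ ^ 2 + ∑ χ ∈ T.YS, ‖(χ : Cfsg.Sz F m → ℂ) g‖ ^ 2) =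
      (Nat.card (Subgroup.centralizer ({g} : Set (Cfsg.Sz F m))) : ℝ) := by
  classical
  letI := Fintype.ofFinite (Cfsg.Sz F m)
  have h := Char.sum_irr_mul_conj g g
  rw [if_pos (IsConj.refl g), T.decomp] at h
  simp only [Complex.mul_conj'] at h
  rw [T.one, norm_one, Complex.ofReal_one, one_pow] at h
  exact_mod_cast h

theorem col_orth {g h : Cfsg.Sz F m} (hgh : ¬ IsConj g h) :
    1 + (T.χS : Cfsg.Sz F m → ℂ) g * conj ((T.χS : Cfsg.Sz F m → ℂ) h) +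
      ∑ θ ∈ T.PS, (θ : Cfsg.Sz F m → ℂ) g * conj ((θ : Cfsg.Sz F m → ℂ) h) +
      ((T.U : Cfsg.Sz F m → ℂ) g * conj ((T.U : Cfsg.Sz F m → ℂ) h) +
        (T.V : Cfsg.Sz F m → ℂ) g * conj ((T.V : Cfsg.Sz F m → ℂ) h) +
        ∑ χ ∈ T.XS, (χ : Cfsg.Sz F m → ℂ) g * conj ((χ : Cfsg.Sz F m → ℂ) h) +
        ∑ χ ∈ T.YS, (χ : Cfsg.Sz F m → ℂ) g * conj ((χ : Cfsg.Sz F m → ℂ) h)) = 0 := by
  classical
  letI := Fintype.ofFinite (Cfsg.Sz F m)
  have h1 := Char.sum_irr_mul_conj g h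
  rw [if_neg hgh, T.decomp, T.one] at h1
  simpa only [map_one, mul_one] using h1

/-! ### Semiregular classes -/

theorem theta_semi {θ : IrrCharacter (Cfsg.Sz F m)} (hθ : θ ∈ T.PS) {g : Cfsg.Sz F m}
    (hg : Semireg g) : (θ : Cfsg.Sz F m → ℂ) g = 0 := by
  obtain ⟨ν, h⟩ := T.ps θ hθ
  rw [h, theta_semireg ν hg]

theorem theta_u {θ : IrrCharacter (Cfsg.Sz F m)} (hθ : θ ∈ T.PS) {g : Cfsg.Sz F m}
    (hg : g ∈ unip F m) (hg1 : g ≠ 1) : (θ : Cfsg.Sz F m → ℂ) g = 1 := by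
  obtain ⟨ν, h⟩ := T.ps θ hθ
  rw [h, theta_unip ν hg hg1]

theorem theta_d {θ : IrrCharacter (Cfsg.Sz F m)} (hθ : θ ∈ T.PS) {l : Fˣ} (hl : l ≠ 1) :
    ‖(θ : Cfsg.Sz F m → ℂ) (gD l)‖ ≤ 2 := by
  obtain ⟨ν, h⟩ := T.ps θ hθ
  rw [h]; exact norm_theta_gD_le ν hl

theorem st_A {a : Cfsg.Sz F m} (ha : a ∈ T.A) (ha1 : a ≠ 1) :
    (T.χS : Cfsg.Sz F m → ℂ) a = -1 := by
  rw [T.st, steinberg_semireg (T.hA.semireg ha ha1).1]

theorem st_B {a : Cfsg.Sz F m} (ha : a ∈ T.B) (ha1 : a ≠ 1) :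
    (T.χS : Cfsg.Sz F m → ℂ) a = -1 := by
  rw [T.st, steinberg_semireg (T.hB.semireg ha ha1).1]

theorem norm_A {a : Cfsg.Sz F m} (ha : a ∈ T.A) (ha1 : a ≠ 1) :
    ∑ χ ∈ T.XS, ‖(χ : Cfsg.Sz F m → ℂ) a‖ ^ 2 = rq F + 2 * rs m - 3 := by
  have h := T.col_norm a
  rw [(T.hA.semireg ha ha1).2, T.cardA_real, T.st_A ha ha1, T.U_A a ha ha1, T.V_A a ha ha1,
    Finset.sum_eq_zero (s := T.PS) (fun θ hθ => by
      rw [T.theta_semi hθ (T.hA.semireg ha ha1).1, norm_zero, sq, mul_zero]),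
    Finset.sum_eq_zero (s := T.YS) (fun χ hχ => by
      rw [T.Y_A χ hχ a ha ha1, norm_zero, sq, mul_zero])] at h
  simp only [norm_neg, norm_one, one_pow] at h
  linarith

theorem norm_B {a : Cfsg.Sz F m} (ha : a ∈ T.B) (ha1 : a ≠ 1) :
    ∑ χ ∈ T.YS, ‖(χ : Cfsg.Sz F m → ℂ) a‖ ^ 2 = rq F - 2 * rs m - 3 := by
  have h := T.col_norm a
  rw [(T.hB.semireg ha ha1).2, T.cardB_real, T.st_B ha ha1, T.U_B a ha ha1, T.V_B a ha ha1,
    Finset.sum_eq_zero (s := T.PS) (fun θ hθ => by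
      rw [T.theta_semi hθ (T.hB.semireg ha ha1).1, norm_zero, sq, mul_zero]),
    Finset.sum_eq_zero (s := T.XS) (fun χ hχ => by
      rw [T.X_B χ hχ a ha ha1, norm_zero, sq, mul_zero])] at h
  simp only [norm_neg, norm_one, one_pow] at h
  linarith

theorem sq_sum_A {a : Cfsg.Sz F m} (ha : a ∈ T.A) (ha1 : a ≠ 1) :
    ∃ r : ℝ, -4 ≤ r ∧ ∑ χ ∈ T.XS, (χ : Cfsg.Sz F m → ℂ) a ^ 2 = (r : ℂ) := by
  classical
  letI := Fintype.ofFinite (Cfsg.Sz F m)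
  have h := Char.sum_irr_mul_conj a a⁻¹
  have hc : ∀ χ : IrrCharacter (Cfsg.Sz F m),
      conj ((χ : Cfsg.Sz F m → ℂ) a⁻¹) = (χ : Cfsg.Sz F m → ℂ) a := fun χ => by
    rw [Char.irr_inv χ.2, Complex.conj_conj]
  simp only [hc, ← sq] at h
  rw [T.decomp, T.one, T.st_A ha ha1, T.U_A a ha ha1, T.V_A a ha ha1,
    Finset.sum_eq_zero (s := T.PS) (fun θ hθ => by
      rw [T.theta_semi hθ (T.hA.semireg ha ha1).1, sq, mul_zero]),
    Finset.sum_eq_zero (s := T.YS) (fun χ hχ => by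
      rw [T.Y_A χ hχ a ha ha1, sq, mul_zero])] at h
  refine ⟨(if IsConj a a⁻¹ then
    (Nat.card (Subgroup.centralizer ({a} : Set (Cfsg.Sz F m))) : ℝ) else 0) - 4, ?_, ?_⟩
  · rw [neg_le_sub_iff_le_add, le_add_iff_nonneg_left]
    split_ifs <;> positivity
  · split_ifs at h ⊢ <;> push_cast at h ⊢ <;> linear_combination h

/-! ### Unipotent classes -/

theorem invol_congr (χ : IrrCharacter (Cfsg.Sz F m)) {b : F} (hb : b ≠ 0) :
    ∃ n : ℕ, (χ : Cfsg.Sz F m → ℂ) 1 + ((Fintype.card F : ℂ) - 1) *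
      (χ : Cfsg.Sz F m → ℂ) (gT 0 b) = (Fintype.card F : ℂ) * n := by
  classical
  letI := Fintype.ofFinite (unipZ F m)
  obtain ⟨n, hn⟩ := Char.isCharacter_classInner_nat
    (Char.isCharacter_restrict (Char.isCharacter_of_irr χ.2) (unipZ F m))
    ⟨_, Char.isIrrCharacter_const_one⟩
  refine ⟨n, ?_⟩
  simp only [classInner, map_one, mul_one, card_unipZ] at hn
  rw [← hn, mul_inv_cancel_left₀ (Nat.cast_ne_zero.2 Fintype.card_ne_zero)]
  have e : Function.Bijective (fun c : F => (⟨gT 0 c, c, rfl⟩ : unipZ F m)) := by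
    refine ⟨fun c d h => (gT_inj (congrArg Subtype.val h)).2, ?_⟩
    rintro ⟨g, c, rfl⟩
    exact ⟨c, rfl⟩
  rw [← e.sum_comp (fun g : unipZ F m => (χ : Cfsg.Sz F m → ℂ) g),
    ← Finset.add_sum_erase _ _ (Finset.mem_univ (0 : F))]
  rw [Finset.sum_congr rfl (g := fun _ => (χ : Cfsg.Sz F m → ℂ) (gT 0 b)) fun c hc => by
    obtain ⟨k, hk⟩ := exists_conj_invol (m := m) hb (Finset.mem_erase.1 hc).1
    show (χ : Cfsg.Sz F m → ℂ) (gT 0 c) = _
    rw [← hk, Char.irr_isClassFunction χ.2]]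
  rw [Finset.sum_const, Finset.card_erase_of_mem (Finset.mem_univ _), Finset.card_univ,
    nsmul_eq_mul, Nat.cast_sub Fintype.card_pos, Nat.cast_one]
  show (χ : Cfsg.Sz F m → ℂ) 1 + _ = (χ : Cfsg.Sz F m → ℂ) (gT 0 0) + _
  rw [gT_zero]

theorem invol_arith {s u v : ℤ} (hs : 2 ≤ s)
    (h : 2 * (2 * s ^ 2) + 2 * ((-s + 2 * s ^ 2 * u) ^ 2 + (-s + 2 * s ^ 2 * v) ^ 2) +
      2 * s ^ 2 * ((-s + 2 * s ^ 2 * u) + (-s + 2 * s ^ 2 * v)) ^ 2 +
      4 * s * ((-s + 2 * s ^ 2 * u) + (-s + 2 * s ^ 2 * v)) ≤ 2 * (2 * s ^ 2) ^ 2) :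
    u = 0 ∧ v = 0 := by
  set S := (-s + 2 * s ^ 2 * u) + (-s + 2 * s ^ 2 * v) with hSdef
  have h0 : 2 * (2 * s ^ 2) + (1 + 2 * s ^ 2) * S ^ 2 + 4 * s * S ≤ 2 * (2 * s ^ 2) ^ 2 := by
    nlinarith [sq_nonneg (u - v), sq_nonneg ((-s + 2 * s ^ 2 * u) - (-s + 2 * s ^ 2 * v))]
  have hw : u + v = 0 := by
    rcases lt_trichotomy (u + v) 0 with hw | hw | hw
    · exfalso
      have hS : 2 * s ^ 2 + 2 * s ≤ -S := by nlinarith [hSdef]
      have h1 : 2 * s ^ 2 * (2 * s ^ 2) ≤ S * S := by nlinarith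
      have h2 : (1 + 2 * s ^ 2) * S ^ 2 + 4 * s * S ≥ 2 * s ^ 2 * (S * S) := by nlinarith
      nlinarith
    · exact hw
    · exfalso
      have hS : 2 * s ≤ S := by nlinarith [hSdef]
      have h1 : 4 * s ^ 2 ≤ S ^ 2 := by nlinarith
      nlinarith
  have hv : v = -u := by linarith
  subst hv
  have hu : 16 * (s ^ 2) ^ 2 * u ^ 2 ≤ 0 := by rw [hSdef] at h; linarith
  have hs0 : 0 < (s ^ 2) ^ 2 := by positivity
  have : u ^ 2 ≤ 0 := by nlinarith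
  have : u = 0 := by nlinarith
  exact ⟨this, by simp [this]⟩

theorem val_invol {b : F} (hb : b ≠ 0) :
    (T.U : Cfsg.Sz F m → ℂ) (gT 0 b) = -(rs m : ℂ) ∧
      (T.V : Cfsg.Sz F m → ℂ) (gT 0 b) = -(rs m : ℂ) ∧
      (∀ χ ∈ T.XS, (χ : Cfsg.Sz F m → ℂ) (gT 0 b) = ((2 * rs m - 1 : ℝ) : ℂ)) ∧
      (∀ χ ∈ T.YS, (χ : Cfsg.Sz F m → ℂ) (gT 0 b) = ((-(2 * rs m) - 1 : ℝ) : ℂ)) := by
  obtain ⟨iU, hiU⟩ := exists_int_invol (Char.isCharacter_of_irr T.U.2)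
    (orderOf_gT_zero (m := m) hb)
  obtain ⟨iV, hiV⟩ := exists_int_invol (Char.isCharacter_of_irr T.V.2)
    (orderOf_gT_zero (m := m) hb)
  obtain ⟨nU, hnU⟩ := invol_congr T.U hb
  obtain ⟨nV, hnV⟩ := invol_congr T.V hb
  obtain ⟨s, hs⟩ : ∃ s : ℤ, ((2 ^ m : ℕ) : ℤ) = s := ⟨_, rfl⟩
  have hq : (Fintype.card F : ℤ) = 2 * s ^ 2 := by
    rw [← hs, hS.card]; push_cast; rw [pow_succ, mul_comm 2 m, pow_mul]; ring
  rw [T.U_one, hiU] at hnU
  rw [T.V_one, hiV] at hnV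
  have eU : ((Fintype.card F : ℤ) - 1) * s + ((Fintype.card F : ℤ) - 1) * iU =
      (Fintype.card F : ℤ) * nU := by rw [← hs]; exact_mod_cast hnU
  have eV : ((Fintype.card F : ℤ) - 1) * s + ((Fintype.card F : ℤ) - 1) * iV =
      (Fintype.card F : ℤ) * nV := by rw [← hs]; exact_mod_cast hnV
  rw [hq] at eU eV
  have hU : iU = -s + 2 * s ^ 2 * (iU + s - nU) := by linear_combination -eU
  have hV : iV = -s + 2 * s ^ 2 * (iV + s - nV) := by linear_combination -eV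
  have hn := T.col_norm (gT 0 b)
  have hle : (Nat.card (Subgroup.centralizer ({gT 0 b} : Set (Cfsg.Sz F m))) : ℝ) ≤ rq F ^ 2 := by
    exact_mod_cast card_centralizer_unip_le (gT_mem_unip 0 b) (gT_zero_ne_one hb)
  rw [T.st, steinberg_unip (gT_mem_unip 0 b) (gT_zero_ne_one hb),
    Finset.sum_congr rfl (s₁ := T.PS) (g := fun _ => (1 : ℝ)) (fun θ hθ => by
      rw [T.theta_u hθ (gT_mem_unip 0 b) (gT_zero_ne_one hb), norm_one, one_pow]),
    Finset.sum_congr rfl (s₁ := T.XS) (g := fun _ => (-1 - ((iU : ℝ) + iV)) ^ 2) (fun χ hχ => by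
      rw [T.X_unip χ hχ _ (gT_mem_unip 0 b) (gT_zero_ne_one hb), hiU, hiV,
        show (-1 - ((iU : ℂ) + iV)) = ((-1 - ((iU : ℝ) + iV) : ℝ) : ℂ) by push_cast; ring,
        Complex.norm_real, Real.norm_eq_abs, sq_abs]),
    Finset.sum_congr rfl (s₁ := T.YS) (g := fun _ => (-1 + ((iU : ℝ) + iV)) ^ 2) (fun χ hχ => by
      rw [T.Y_unip χ hχ _ (gT_mem_unip 0 b) (gT_zero_ne_one hb), hiU, hiV,
        show (-1 + ((iU : ℂ) + iV)) = ((-1 + ((iU : ℝ) + iV) : ℝ) : ℂ) by push_cast; ring,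
        Complex.norm_real, Real.norm_eq_abs, sq_abs]),
    hiU, hiV, Finset.sum_const, Finset.sum_const, Finset.sum_const, nsmul_eq_mul, nsmul_eq_mul,
    nsmul_eq_mul, T.cardPS_real, T.cardXS_real, T.cardYS_real, Complex.norm_intCast,
    Complex.norm_intCast, sq_abs, sq_abs, norm_zero] at hn
  have hsr : rs m = (s : ℝ) := by rw [← hs]; simp [rs]
  have hqr : rq F = 2 * (s : ℝ) ^ 2 := by rw [rq_eq (m := m), hsr]
  rw [hsr, hqr] at hn
  rw [hqr] at hle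
  have hkey : 2 * (2 * s ^ 2) + 2 * (iU ^ 2 + iV ^ 2) + 2 * s ^ 2 * (iU + iV) ^ 2 +
      4 * s * (iU + iV) ≤ 2 * (2 * s ^ 2) ^ 2 := by
    have h : 2 * (2 * (s : ℝ) ^ 2) + 2 * ((iU : ℝ) ^ 2 + (iV : ℝ) ^ 2) +
        2 * (s : ℝ) ^ 2 * ((iU : ℝ) + iV) ^ 2 + 4 * (s : ℝ) * ((iU : ℝ) + iV) ≤
        2 * (2 * (s : ℝ) ^ 2) ^ 2 := by nlinarith
    exact_mod_cast h
  have hs2 : 2 ≤ s := by
    have : (2 : ℕ) ^ 1 ≤ 2 ^ m := Nat.pow_le_pow_right (by norm_num) hS.one_le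
    rw [← hs]; exact_mod_cast this
  rw [hU, hV] at hkey
  obtain ⟨h1, h2⟩ := invol_arith hs2 hkey
  rw [h1, mul_zero, add_zero] at hU
  rw [h2, mul_zero, add_zero] at hV
  have hsc : (rs m : ℂ) = (s : ℂ) := by rw [hsr]; simp
  have hU' : (T.U : Cfsg.Sz F m → ℂ) (gT 0 b) = -(rs m : ℂ) := by
    rw [hiU, hU, hsc]; push_cast; rfl
  have hV' : (T.V : Cfsg.Sz F m → ℂ) (gT 0 b) = -(rs m : ℂ) := by
    rw [hiV, hV, hsc]; push_cast; rfl
  refine ⟨hU', hV', fun χ hχ => ?_, fun χ hχ => ?_⟩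
  · rw [T.X_unip χ hχ _ (gT_mem_unip 0 b) (gT_zero_ne_one hb), hU', hV']; push_cast; ring
  · rw [T.Y_unip χ hχ _ (gT_mem_unip 0 b) (gT_zero_ne_one hb), hU', hV']; push_cast; ring

theorem val_four {a : F} (ha : a ≠ 0) (b : F) :
    (T.V : Cfsg.Sz F m → ℂ) (gT a b) = -(T.U : Cfsg.Sz F m → ℂ) (gT a b) ∧
      ‖(T.U : Cfsg.Sz F m → ℂ) (gT a b)‖ ≤ rs m ∧
      (∀ χ ∈ T.XS, (χ : Cfsg.Sz F m → ℂ) (gT a b) = -1) ∧
      (∀ χ ∈ T.YS, (χ : Cfsg.Sz F m → ℂ) (gT a b) = -1) := by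
  have hp := gT_mem_unip (m := m) a b
  have hp1 := gT_ne_one_of_left (m := m) ha b
  obtain ⟨t1, t2, t3, t4⟩ := T.val_invol (b := 1) one_ne_zero
  have hnc : ¬ IsConj (gT a b : Cfsg.Sz F m) (gT 0 1) := by
    intro h
    obtain ⟨k, hk⟩ := isConj_iff.1 h
    have h2 : orderOf (k * gT a b * k⁻¹) = orderOf (gT a b : Cfsg.Sz F m) := by
      simpa [MulAut.conj_apply] using
        orderOf_injective (MulAut.conj k).toMonoidHom (MulAut.conj k).injective (gT a b)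
    rw [hk, orderOf_gT_zero one_ne_zero, orderOf_gT ha] at h2
    omega
  have ho := T.col_orth hnc
  set u := (T.U : Cfsg.Sz F m → ℂ) (gT a b) with hu
  set v := (T.V : Cfsg.Sz F m → ℂ) (gT a b) with hv
  rw [T.st, steinberg_unip hp hp1, zero_mul, t1, t2,
    Finset.sum_congr rfl (s₁ := T.PS) (g := fun _ => (1 : ℂ)) (fun θ hθ => by
      rw [T.theta_u hθ hp hp1, T.theta_u hθ (gT_mem_unip 0 1) (gT_zero_ne_one one_ne_zero),
        map_one, mul_one]),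
    Finset.sum_congr rfl (s₁ := T.XS)
      (g := fun _ => (-1 - (u + v)) * ((2 * rs m - 1 : ℝ) : ℂ)) (fun χ hχ => by
      rw [T.X_unip χ hχ _ hp hp1, t3 χ hχ, Complex.conj_ofReal]),
    Finset.sum_congr rfl (s₁ := T.YS)
      (g := fun _ => (-1 + (u + v)) * ((-(2 * rs m) - 1 : ℝ) : ℂ)) (fun χ hχ => by
      rw [T.Y_unip χ hχ _ hp hp1, t4 χ hχ, Complex.conj_ofReal]),
    Finset.sum_const, Finset.sum_const, Finset.sum_const, nsmul_eq_mul, nsmul_eq_mul, nsmul_eq_mul,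
    map_neg, Complex.conj_ofReal,
    show ((T.PS.card : ℕ) : ℂ) = (((T.PS.card : ℝ) : ℝ) : ℂ) by simp,
    show ((T.XS.card : ℕ) : ℂ) = (((T.XS.card : ℝ) : ℝ) : ℂ) by simp,
    show ((T.YS.card : ℕ) : ℂ) = (((T.YS.card : ℝ) : ℝ) : ℂ) by simp,
    T.cardPS_real, T.cardXS_real, T.cardYS_real, rq_eq (m := m)] at ho
  have h2 := two_le_rs (F := F) (m := m)
  have hsum : u + v = 0 := by
    push_cast at ho
    have h3 : (rs m : ℂ) ^ 3 * (u + v) = 0 := by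
      have e : (rs m : ℂ) = (2 : ℂ) ^ m := by simp [rs]
      rw [e]
      generalize (2 : ℂ) ^ m = σ at ho ⊢
      linear_combination (-1 / 2 : ℂ) * ho
    refine (mul_eq_zero.1 h3).resolve_left (pow_ne_zero 3 ?_)
    exact_mod_cast (by linarith : rs m ≠ 0)
  have hX : ∀ χ ∈ T.XS, (χ : Cfsg.Sz F m → ℂ) (gT a b) = -1 := fun χ hχ => by
    rw [T.X_unip χ hχ _ hp hp1, hsum, sub_zero]
  have hY : ∀ χ ∈ T.YS, (χ : Cfsg.Sz F m → ℂ) (gT a b) = -1 := fun χ hχ => by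
    rw [T.Y_unip χ hχ _ hp hp1, hsum, add_zero]
  have hVU : v = -u := eq_neg_of_add_eq_zero_right hsum
  refine ⟨hVU, ?_, hX, hY⟩
  have hn := T.col_norm (gT a b)
  rw [T.st, steinberg_unip hp hp1, ← hv, hVU, norm_neg, norm_zero,
    Finset.sum_congr rfl (s₁ := T.PS) (g := fun _ => (1 : ℝ)) (fun θ hθ => by
      rw [T.theta_u hθ hp hp1, norm_one, one_pow]),
    Finset.sum_congr rfl (s₁ := T.XS) (g := fun _ => (1 : ℝ)) (fun χ hχ => by
      rw [hX χ hχ, norm_neg, norm_one, one_pow]),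
    Finset.sum_congr rfl (s₁ := T.YS) (g := fun _ => (1 : ℝ)) (fun χ hχ => by
      rw [hY χ hχ, norm_neg, norm_one, one_pow]),
    Finset.sum_const, Finset.sum_const, Finset.sum_const, nsmul_one, nsmul_one, nsmul_one,
    T.cardPS_real, T.cardXS_real, T.cardYS_real] at hn
  have hle : (Nat.card (Subgroup.centralizer ({gT a b} : Set (Cfsg.Sz F m))) : ℝ) ≤ 2 * rq F := by
    exact_mod_cast card_centralizer_four ha b
  have hq := rq_eq (F := F) (m := m)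
  have hsq : ‖u‖ ^ 2 ≤ rs m ^ 2 := by nlinarith
  exact (pow_le_pow_iff_left₀ (norm_nonneg _) (by linarith) two_ne_zero).1 hsq

end Table

end Cfsg.Agent.SzChar
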