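import Mathlib

/-!
# Two mutually balanced families of signed triples

The combinatorial core of the determination of the cuspidal characters of the Suzuki groups.
-/

namespace Cfsg.Agent.SzChar

open Finset

variable {C : Type*} [Fintype C] [DecidableEq C]

/-- The support of an integer vector. -/
def supp (f : C → ℤ) : Finset C := univ.filter fun x => f x ≠ 0

theorem mem_supp {f : C → ℤ} {x : C} : x ∈ supp f ↔ f x ≠ 0 := by simp [supp]

theorem notMem_supp {f : C → ℤ} {x : C} : x ∉ supp f ↔ f x = 0 := by simp [supp]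

/-- A signed triple. -/
def IsTriple (f : C → ℤ) : Prop := ∑ x, f x ^ 2 = 3

theorem IsTriple.sq_eq_one {f : C → ℤ} (h : IsTriple f) {x : C} (hx : x ∈ supp f) :
    f x = 1 ∨ f x = -1 := by
  have h1 : f x ^ 2 ≤ 3 := h ▸ Finset.single_le_sum (fun y _ => sq_nonneg (f y)) (mem_univ x)
  have h2 := mem_supp.1 hx
  have h3 : -1 ≤ f x ∧ f x ≤ 1 := by constructor <;> nlinarith
  omega

theorem IsTriple.card_supp {f : C → ℤ} (h : IsTriple f) : (supp f).card = 3 := by
  have h1 : ∑ x ∈ supp f, f x ^ 2 = ∑ x, f x ^ 2 :=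
    Finset.sum_subset (subset_univ _) fun x _ hx => by rw [notMem_supp.1 hx]; rfl
  rw [h, Finset.sum_congr rfl (fun x hx => show f x ^ 2 = 1 from ?_), sum_const, nsmul_one] at h1
  · exact_mod_cast h1
  · rcases h.sq_eq_one hx with e | e <;> rw [e] <;> norm_num

/-- Two triples of inner product `2 * s`, `s = ±1`, share two places with product of signs `s`. -/
theorem IsTriple.inter {f g : C → ℤ} (hf : IsTriple f) (hg : IsTriple g) {s : ℤ}
    (hs : s = 1 ∨ s = -1) (h : ∑ x, f x * g x = 2 * s) :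
    (supp f ∩ supp g).card = 2 ∧ ∀ x ∈ supp f ∩ supp g, g x = s * f x := by
  set I := supp f ∩ supp g
  have h1 : ∑ x ∈ I, f x * g x = 2 * s := by
    rw [← h]
    refine Finset.sum_subset (subset_univ _) fun x _ hx => ?_
    rcases not_and_or.1 (mt mem_inter.2 hx) with hx | hx <;> rw [notMem_supp.1 hx] <;> ring
  have hterm : ∀ x ∈ I, (1 - s * (f x * g x) = 0 ∧ g x = s * f x) ∨
      1 - s * (f x * g x) = 2 := by
    intro x hx
    obtain ⟨hx1, hx2⟩ := mem_inter.1 hx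
    rcases hf.sq_eq_one hx1 with e | e <;> rcases hg.sq_eq_one hx2 with e' | e' <;>
      rcases hs with rfl | rfl <;> rw [e, e'] <;> norm_num
  have hnonneg : ∀ x ∈ I, 0 ≤ 1 - s * (f x * g x) := fun x hx => by
    rcases hterm x hx with h | h <;> omega
  have h2 : ∑ x ∈ I, (1 - s * (f x * g x)) = (I.card : ℤ) - 2 := by
    rw [sum_sub_distrib, sum_const, nsmul_one, ← mul_sum, h1]
    rcases hs with rfl | rfl <;> norm_num
  have h3 : I.card ≤ 3 := hf.card_supp ▸ card_le_card inter_subset_left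
  have h4 : 0 ≤ ∑ x ∈ I, (1 - s * (f x * g x)) := sum_nonneg hnonneg
  have h5 : (2 : ℤ) ∣ ∑ x ∈ I, (1 - s * (f x * g x)) := dvd_sum fun x hx => by
    rcases hterm x hx with h | h
    · exact ⟨0, by rw [h.1, mul_zero]⟩
    · exact ⟨1, by rw [h, mul_one]⟩
  rw [h2] at h4 h5
  have h6 : I.card = 2 := by omega
  refine ⟨h6, fun x hx => ?_⟩
  rw [h6] at h2
  have h7 := (sum_eq_zero_iff_of_nonneg hnonneg).1 (by simpa using h2) x hx
  rcases hterm x hx with h | h
  · exact h.2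
  · omega

theorem sum_of_supp {f : C → ℤ} (g : C → ℤ) {a b c : C} (hab : a ≠ b) (hac : a ≠ c) (hbc : b ≠ c)
    (h : supp f = {a, b, c}) : ∑ x, f x * g x = f a * g a + f b * g b + f c * g c := by
  rw [← Finset.sum_subset (subset_univ ({a, b, c} : Finset C)) fun x _ hx => by
    rw [← h] at hx
    rw [notMem_supp.1 hx, zero_mul]]
  rw [sum_insert (by simp [hab, hac]), sum_insert (by simp [hbc]), sum_singleton, add_assoc]

variable {ι κ : Type*} [DecidableEq ι] [DecidableEq κ] {Λ : Finset ι} {M : Finset κ}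
  {v : ι → C → ℤ} {w : κ → C → ℤ}

/-- The hypotheses on the two families. -/
structure IsConfig (Λ : Finset ι) (M : Finset κ) (v : ι → C → ℤ) (w : κ → C → ℤ) (a : C → ℕ)
    (e : C → ℕ) (t : ℤ) : Prop where
  triv : ∀ i ∈ Λ, IsTriple (v i)
  triw : ∀ j ∈ M, IsTriple (w j)
  vv : ∀ i ∈ Λ, ∀ j ∈ Λ, i ≠ j → ∑ x, v i x * v j x = 2
  ww : ∀ i ∈ M, ∀ j ∈ M, i ≠ j → ∑ x, w i x * w j x = 2
  vw : ∀ i ∈ Λ, ∀ j ∈ M, ∑ x, v i x * w j x = -2
  va : ∀ i ∈ Λ, ∑ x, v i x * (a x : ℤ) = -1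
  wa : ∀ j ∈ M, ∑ x, w j x * (a x : ℤ) = -1
  ve : ∀ i ∈ Λ, ∑ x, v i x * (e x : ℤ) = -t
  we : ∀ j ∈ M, ∑ x, w j x * (e x : ℤ) = -t
  three : 3 ≤ Λ.card
  ne : M.Nonempty
  le_three : Λ.card ≤ 3 * M.card
  le : M.card ≤ Λ.card
  bound : ∑ x, a x ^ 2 ≤ Λ.card + M.card

variable {a e : C → ℕ} {t : ℤ}

theorem IsConfig.inter_vv (H : IsConfig Λ M v w a e t) {i j : ι} (hi : i ∈ Λ) (hj : j ∈ Λ)
    (hij : i ≠ j) :
    (supp (v i) ∩ supp (v j)).card = 2 ∧ ∀ x ∈ supp (v i) ∩ supp (v j), v j x = v i x := by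
  simpa using (H.triv i hi).inter (H.triv j hj) (s := 1) (Or.inl rfl) (by simpa using H.vv i hi j hj hij)

theorem IsConfig.inter_ww (H : IsConfig Λ M v w a e t) {i j : κ} (hi : i ∈ M) (hj : j ∈ M)
    (hij : i ≠ j) :
    (supp (w i) ∩ supp (w j)).card = 2 ∧ ∀ x ∈ supp (w i) ∩ supp (w j), w j x = w i x := by
  simpa using (H.triw i hi).inter (H.triw j hj) (s := 1) (Or.inl rfl) (by simpa using H.ww i hi j hj hij)

theorem IsConfig.inter_vw (H : IsConfig Λ M v w a e t) {i : ι} {j : κ} (hi : i ∈ Λ) (hj : j ∈ M) :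
    (supp (v i) ∩ supp (w j)).card = 2 ∧ ∀ x ∈ supp (v i) ∩ supp (w j), w j x = -v i x := by
  simpa using (H.triv i hi).inter (H.triw j hj) (s := -1) (Or.inr rfl) (by simpa using H.vw i hi j hj)

/-- A place shared by two triples of the first family lies in every one of them. -/
theorem IsConfig.mem_third (H : IsConfig Λ M v w a e t) {i j k : ι} (hi : i ∈ Λ) (hj : j ∈ Λ)
    (hk : k ∈ Λ) (hij : i ≠ j) {U : C} (hU : U ∈ supp (v i) ∩ supp (v j)) : U ∈ supp (v k) := by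
  by_cases hki : k = i
  · subst hki; exact (mem_inter.1 hU).1
  by_cases hkj : k = j
  · subst hkj; exact (mem_inter.1 hU).2
  by_contra hUk
  obtain ⟨hUi, hUj⟩ := mem_inter.1 hU
  obtain ⟨m, hm⟩ := H.ne
  obtain ⟨hij2, hijv⟩ := H.inter_vv hi hj hij
  obtain ⟨hik2, hikv⟩ := H.inter_vv hi hk (Ne.symm hki)
  obtain ⟨hjk2, hjkv⟩ := H.inter_vv hj hk (Ne.symm hkj)
  obtain ⟨V, hVU, hIJ⟩ : ∃ V, V ≠ U ∧ supp (v i) ∩ supp (v j) = {U, V} := by
    obtain ⟨x, y, hxy, he⟩ := Finset.card_eq_two.1 hij2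
    rw [he] at hU
    rcases mem_insert.1 hU with rfl | hU
    · exact ⟨y, hxy.symm, he⟩
    · rw [mem_singleton] at hU; subst hU
      exact ⟨x, hxy, by rw [he, Finset.pair_comm]⟩
  have hSk : ∀ l, l ∈ Λ → U ∈ supp (v l) → (supp (v l) ∩ supp (v k)).card = 2 →
      supp (v l) ∩ supp (v k) = (supp (v l)).erase U := by
    intro l hl hUl h2
    refine Finset.eq_of_subset_of_card_le (fun x hx => ?_) ?_
    · rw [mem_inter] at hx
      exact mem_erase.2 ⟨fun h => hUk (h ▸ hx.2), hx.1⟩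
    · rw [card_erase_of_mem hUl, (H.triv l hl).card_supp, h2]
  have hEi := hSk i hi hUi hik2
  have hEj := hSk j hj hUj hjk2
  have hVij : V ∈ supp (v i) ∩ supp (v j) := by rw [hIJ]; simp
  obtain ⟨hVi, hVj⟩ := mem_inter.1 hVij
  have hex : ∀ l, l ∈ Λ → U ∈ supp (v l) → V ∈ supp (v l) →
      ∃ X, X ≠ U ∧ X ≠ V ∧ supp (v l) = {U, V, X} := by
    intro l hl h1 h2
    obtain ⟨X, hX⟩ := Finset.card_eq_one.1 (show (((supp (v l)).erase U).erase V).card = 1 by
      rw [card_erase_of_mem (mem_erase.2 ⟨hVU, h2⟩), card_erase_of_mem h1,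
        (H.triv l hl).card_supp])
    have hX' : X ∈ ((supp (v l)).erase U).erase V := hX ▸ mem_singleton_self X
    simp only [mem_erase] at hX'
    refine ⟨X, hX'.2.1, hX'.1, ?_⟩
    rw [← hX, insert_erase (mem_erase.2 ⟨hVU, h2⟩), insert_erase h1]
  obtain ⟨X, hXU, hXV, hSi⟩ := hex i hi hUi hVi
  obtain ⟨Y, hYU, hYV, hSj⟩ := hex j hj hUj hVj
  have hXY : X ≠ Y := fun h => by
    subst h
    have h3 : supp (v i) ∩ supp (v j) = supp (v i) := by rw [hSi, hSj, inter_self]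
    rw [h3, (H.triv i hi).card_supp] at hij2
    omega
  have hVk : V ∈ supp (v i) ∩ supp (v k) := hEi ▸ mem_erase.2 ⟨hVU, hVi⟩
  have hXk : X ∈ supp (v i) ∩ supp (v k) := hEi ▸ mem_erase.2 ⟨hXU, by simp [hSi]⟩
  have hYk : Y ∈ supp (v j) ∩ supp (v k) := hEj ▸ mem_erase.2 ⟨hYU, by simp [hSj]⟩
  have hSk' : supp (v k) = {V, X, Y} := by
    refine (Finset.eq_of_subset_of_card_le (fun x hx => ?_) ?_).symm
    · simp only [mem_insert, mem_singleton] at hx
      rcases hx with rfl | rfl | rfl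
      exacts [(mem_inter.1 hVk).2, (mem_inter.1 hXk).2, (mem_inter.1 hYk).2]
    · rw [(H.triv k hk).card_supp, card_insert_of_notMem (by simp [hXV.symm, hYV.symm]),
        card_pair hXY]
  obtain ⟨hiT, hiTv⟩ := H.inter_vw hi hm
  obtain ⟨hjT, hjTv⟩ := H.inter_vw hj hm
  obtain ⟨hkT, hkTv⟩ := H.inter_vw hk hm
  set T := supp (w m) with hT
  have hcount : ∀ (p q r : C), p ≠ q → p ≠ r → q ≠ r →
      ((({p, q, r} : Finset C) ∩ T).card = 2 ↔
      ((p ∈ T ∧ q ∈ T ∧ r ∉ T) ∨ (p ∈ T ∧ q ∉ T ∧ r ∈ T) ∨ (p ∉ T ∧ q ∈ T ∧ r ∈ T))) := by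
    intro p q r hpq hpr hqr
    by_cases hp : p ∈ T <;> by_cases hq : q ∈ T <;> by_cases hr : r ∈ T <;>
      simp [Finset.insert_inter_of_mem, Finset.insert_inter_of_notMem, hp, hq, hr, hpq, hpr, hqr]
  rw [hSi, hcount U V X hVU.symm hXU.symm hXV.symm] at hiT
  rw [hSj, hcount U V Y hVU.symm hYU.symm hYV.symm] at hjT
  rw [hSk', hcount V X Y hXV.symm hYV.symm hXY] at hkT
  have hmem : U ∈ T ∧ X ∈ T ∧ Y ∈ T := by tauto
  obtain ⟨hUT, hXT, hYT⟩ := hmem
  have hST : T = {U, X, Y} := by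
    refine (Finset.eq_of_subset_of_card_le (fun x hx => ?_) ?_).symm
    · simp only [mem_insert, mem_singleton] at hx
      rcases hx with rfl | rfl | rfl <;> assumption
    · rw [hT, (H.triw m hm).card_supp, card_insert_of_notMem (by simp [hXU.symm, hYU.symm]),
        card_pair hXY]
  have e1 := H.va i hi
  have e2 := H.va j hj
  have e3 := H.va k hk
  have e4 := H.wa m hm
  rw [sum_of_supp _ hVU.symm hXU.symm hXV.symm hSi] at e1
  rw [sum_of_supp _ hVU.symm hYU.symm hYV.symm hSj] at e2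
  rw [sum_of_supp _ hXV.symm hYV.symm hXY hSk'] at e3
  rw [sum_of_supp _ hXU.symm hYU.symm hXY hST] at e4
  rw [hijv U hU, hijv V hVij] at e2
  rw [hikv V hVk, hikv X hXk, hjkv Y hYk] at e3
  rw [hiTv U (mem_inter.2 ⟨hUi, hUT⟩), hiTv X (mem_inter.2 ⟨by simp [hSi], hXT⟩),
    hjTv Y (mem_inter.2 ⟨by simp [hSj], hYT⟩)] at e4
  simp only [neg_mul] at e4
  omega

/-- The conclusion: a common pair and one further place for each triple. -/
theorem IsConfig.structure_thm (H : IsConfig Λ M v w a e t) :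
    ∃ (U V : C) (X : ι → C) (Y : κ → C), U ≠ V ∧
      (∀ i ∈ Λ, X i ≠ U ∧ X i ≠ V ∧ supp (v i) = {U, V, X i}) ∧
      (∀ j ∈ M, Y j ≠ U ∧ Y j ≠ V ∧ supp (w j) = {U, V, Y j}) ∧
      (∀ i ∈ Λ, ∀ j ∈ Λ, X i = X j → i = j) ∧ (∀ i ∈ M, ∀ j ∈ M, Y i = Y j → i = j) ∧
      (∀ i ∈ Λ, ∀ j ∈ M, X i ≠ Y j) ∧
      (∀ i ∈ Λ, ∀ j ∈ M, (e (X i) : ℤ) + e (Y j) = 2 * t) := by
  classical
  obtain ⟨i₁, hi₁, i₂, hi₂, h12⟩ := Finset.one_lt_card.1 (show 1 < Λ.card by have := H.three; omega)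
  obtain ⟨U, V, hUV, hIJ⟩ := Finset.card_eq_two.1 (H.inter_vv hi₁ hi₂ h12).1
  have hcore : ∀ i ∈ Λ, U ∈ supp (v i) ∧ V ∈ supp (v i) := fun i hi =>
    ⟨H.mem_third hi₁ hi₂ hi h12 (by rw [hIJ]; simp),
      H.mem_third hi₁ hi₂ hi h12 (by rw [hIJ]; simp)⟩
  have third : ∀ f : C → ℤ, IsTriple f → U ∈ supp f → V ∈ supp f →
      ∃ X, X ≠ U ∧ X ≠ V ∧ supp f = {U, V, X} := by
    intro f hf h1 h2
    obtain ⟨X, hX⟩ := Finset.card_eq_one.1 (show (((supp f).erase U).erase V).card = 1 by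
      rw [card_erase_of_mem (mem_erase.2 ⟨hUV.symm, h2⟩), card_erase_of_mem h1, hf.card_supp])
    have hX' : X ∈ ((supp f).erase U).erase V := hX ▸ mem_singleton_self X
    simp only [mem_erase] at hX'
    refine ⟨X, hX'.2.1, hX'.1, ?_⟩
    rw [← hX, insert_erase (mem_erase.2 ⟨hUV.symm, h2⟩), insert_erase h1]
  have hX' : ∀ i, ∃ X, i ∈ Λ → X ≠ U ∧ X ≠ V ∧ supp (v i) = {U, V, X} := fun i => by
    by_cases hi : i ∈ Λ
    · obtain ⟨X, hX⟩ := third _ (H.triv i hi) (hcore i hi).1 (hcore i hi).2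
      exact ⟨X, fun _ => hX⟩
    · exact ⟨U, fun h => absurd h hi⟩
  choose X hX using hX'
  have hXinj : ∀ i ∈ Λ, ∀ j ∈ Λ, X i = X j → i = j := fun i hi j hj h => by
    by_contra hij
    have h2 := (H.inter_vv hi hj hij).1
    rw [(hX i hi).2.2, (hX j hj).2.2, h, inter_self, ← (hX j hj).2.2,
      (H.triv j hj).card_supp] at h2
    omega
  have hwcore : ∀ j ∈ M, U ∈ supp (w j) ∧ V ∈ supp (w j) := by
    intro j hj
    suffices key : ∀ p q : C, p ≠ q → ({U, V} : Finset C) = {p, q} → p ∈ supp (w j) from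
      ⟨key U V hUV rfl, key V U hUV.symm (Finset.pair_comm U V)⟩
    intro p q hpq hp
    by_contra hpT
    have hsub : ∀ i ∈ Λ, q ∈ supp (w j) ∧ X i ∈ supp (w j) := by
      intro i hi
      obtain ⟨hXU, hXV, hS⟩ := hX i hi
      have hpS : p ∈ supp (v i) := by
        have : p ∈ ({U, V} : Finset C) := hp ▸ mem_insert_self p _
        rw [hS]; simp only [mem_insert, mem_singleton] at this ⊢; tauto
      have h2 := (H.inter_vw hi hj).1
      have h3 : supp (v i) ∩ supp (w j) = (supp (v i)).erase p := by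
        refine Finset.eq_of_subset_of_card_le (fun x hx => ?_) ?_
        · rw [mem_inter] at hx; exact mem_erase.2 ⟨fun h => hpT (h ▸ hx.2), hx.1⟩
        · rw [card_erase_of_mem hpS, (H.triv i hi).card_supp, h2]
      have hqS : q ∈ (supp (v i)).erase p := by
        have : q ∈ ({U, V} : Finset C) := hp ▸ mem_insert_of_mem (mem_singleton_self q)
        refine mem_erase.2 ⟨hpq.symm, ?_⟩
        rw [hS]; simp only [mem_insert, mem_singleton] at this ⊢; tauto
      have hXS : X i ∈ (supp (v i)).erase p := by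
        refine mem_erase.2 ⟨fun h => ?_, by rw [hS]; simp⟩
        have : p ∈ ({U, V} : Finset C) := hp ▸ mem_insert_self p _
        simp only [mem_insert, mem_singleton] at this
        rcases this with h' | h'
        · exact hXU (h.trans h')
        · exact hXV (h.trans h')
      rw [← h3, mem_inter] at hqS hXS
      exact ⟨hqS.2, hXS.2⟩
    obtain ⟨i₀, hi₀⟩ := Finset.card_pos.1 (show 0 < Λ.card by have := H.three; omega)
    have hq : q ∉ Λ.image X := fun h => by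
      obtain ⟨i, hi, h'⟩ := mem_image.1 h
      have : q ∈ ({U, V} : Finset C) := hp ▸ mem_insert_of_mem (mem_singleton_self q)
      simp only [mem_insert, mem_singleton] at this
      rcases this with h'' | h''
      · exact (hX i hi).1 (h'.trans h'')
      · exact (hX i hi).2.1 (h'.trans h'')
    have hle : (insert q (Λ.image X)).card ≤ (supp (w j)).card := by
      refine card_le_card fun x hx => ?_
      rcases mem_insert.1 hx with rfl | hx
      · exact (hsub i₀ hi₀).1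
      · obtain ⟨i, hi, rfl⟩ := mem_image.1 hx
        exact (hsub i hi).2
    rw [card_insert_of_notMem hq, card_image_of_injOn (fun i hi j hj h => hXinj i hi j hj h),
      (H.triw j hj).card_supp] at hle
    have := H.three
    omega
  have hY' : ∀ j, ∃ Y, j ∈ M → Y ≠ U ∧ Y ≠ V ∧ supp (w j) = {U, V, Y} := fun j => by
    by_cases hj : j ∈ M
    · obtain ⟨Y, hY⟩ := third _ (H.triw j hj) (hwcore j hj).1 (hwcore j hj).2
      exact ⟨Y, fun _ => hY⟩
    · exact ⟨U, fun h => absurd h hj⟩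
  choose Y hY using hY'
  have hYinj : ∀ i ∈ M, ∀ j ∈ M, Y i = Y j → i = j := fun i hi j hj h => by
    by_contra hij
    have h2 := (H.inter_ww hi hj hij).1
    rw [(hY i hi).2.2, (hY j hj).2.2, h, inter_self, ← (hY j hj).2.2,
      (H.triw j hj).card_supp] at h2
    omega
  have hXY : ∀ i ∈ Λ, ∀ j ∈ M, X i ≠ Y j := fun i hi j hj h => by
    have h2 := (H.inter_vw hi hj).1
    rw [(hX i hi).2.2, (hY j hj).2.2, h, inter_self, ← (hY j hj).2.2,
      (H.triw j hj).card_supp] at h2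
    omega
  obtain ⟨m, hm⟩ := H.ne
  have hv : ∀ i ∈ Λ, v i U = -w m U ∧ v i V = -w m V := fun i hi => by
    have h := (H.inter_vw hi hm).2
    exact ⟨by rw [h U (mem_inter.2 ⟨(hcore i hi).1, (hwcore m hm).1⟩), neg_neg],
      by rw [h V (mem_inter.2 ⟨(hcore i hi).2, (hwcore m hm).2⟩), neg_neg]⟩
  obtain ⟨i₀, hi₀⟩ := Finset.card_pos.1 (show 0 < Λ.card by have := H.three; omega)
  have hw : ∀ j ∈ M, w j U = w m U ∧ w j V = w m V := fun j hj => by
    have h := (H.inter_vw hi₀ hj).2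
    obtain ⟨h1, h2⟩ := hv i₀ hi₀
    exact ⟨by rw [h U (mem_inter.2 ⟨(hcore i₀ hi₀).1, (hwcore j hj).1⟩), h1, neg_neg],
      by rw [h V (mem_inter.2 ⟨(hcore i₀ hi₀).2, (hwcore j hj).2⟩), h2, neg_neg]⟩
  set c : ℤ := -(w m U * a U + w m V * a V) with hc
  have hXa : ∀ i ∈ Λ, v i (X i) * a (X i) = -1 - c := fun i hi => by
    have h := H.va i hi
    rw [sum_of_supp _ hUV (hX i hi).1.symm (hX i hi).2.1.symm (hX i hi).2.2, (hv i hi).1,
      (hv i hi).2] at h
    simp only [hc]; linarith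
  have hYa : ∀ j ∈ M, w j (Y j) * a (Y j) = -1 + c := fun j hj => by
    have h := H.wa j hj
    rw [sum_of_supp _ hUV (hY j hj).1.symm (hY j hj).2.1.symm (hY j hj).2.2, (hw j hj).1,
      (hw j hj).2] at h
    simp only [hc]; linarith
  have hXsq : ∀ i ∈ Λ, ((a (X i) : ℤ)) ^ 2 = (1 + c) ^ 2 := fun i hi => by
    have h := hXa i hi
    rcases (H.triv i hi).sq_eq_one (x := X i) (by rw [(hX i hi).2.2]; simp) with e' | e' <;>
      rw [e'] at h
    · rw [show (a (X i) : ℤ) = -1 - c by linarith]; ring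
    · rw [show (a (X i) : ℤ) = 1 + c by linarith]
  have hYsq : ∀ j ∈ M, ((a (Y j) : ℤ)) ^ 2 = (1 - c) ^ 2 := fun j hj => by
    have h := hYa j hj
    rcases (H.triw j hj).sq_eq_one (x := Y j) (by rw [(hY j hj).2.2]; simp) with e' | e' <;>
      rw [e'] at h
    · rw [show (a (Y j) : ℤ) = -1 + c by linarith]; ring
    · rw [show (a (Y j) : ℤ) = 1 - c by linarith]
  have hc0 : c = 0 := by
    by_contra hcne
    have hdisj : Disjoint (Λ.image X) (M.image Y) := by
      rw [Finset.disjoint_left]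
      intro x hx hx'
      obtain ⟨i, hi, rfl⟩ := mem_image.1 hx
      obtain ⟨j, hj, hji⟩ := mem_image.1 hx'
      exact hXY i hi j hj hji.symm
    have hnot : ∀ p, p = U ∨ p = V → p ∉ Λ.image X ∪ M.image Y := by
      intro p hp h
      rcases mem_union.1 h with h | h
      · obtain ⟨i, hi, rfl⟩ := mem_image.1 h
        exact hp.elim (hX i hi).1 (hX i hi).2.1
      · obtain ⟨j, hj, rfl⟩ := mem_image.1 h
        exact hp.elim (hY j hj).1 (hY j hj).2.1
    obtain ⟨p, hp, hpa⟩ : ∃ p, (p = U ∨ p = V) ∧ 1 ≤ (a p : ℤ) ^ 2 := by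
      by_contra hcon
      push Not at hcon
      have h1 := hcon U (Or.inl rfl)
      have h2 := hcon V (Or.inr rfl)
      have hU0 : (a U : ℤ) = 0 := by
        have := sq_nonneg (a U : ℤ); exact pow_eq_zero_iff two_ne_zero |>.1 (by omega)
      have hV0 : (a V : ℤ) = 0 := by
        have := sq_nonneg (a V : ℤ); exact pow_eq_zero_iff two_ne_zero |>.1 (by omega)
      exact hcne (by rw [hc, hU0, hV0]; ring)
    have hsum : ∑ x ∈ insert p (Λ.image X ∪ M.image Y), (a x : ℤ) ^ 2 ≤ ∑ x, (a x : ℤ) ^ 2 :=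
      sum_le_sum_of_subset_of_nonneg (subset_univ _) fun x _ _ => sq_nonneg _
    rw [sum_insert (hnot p hp), sum_union hdisj,
      sum_image (fun i hi j hj h => hXinj i hi j hj h),
      sum_image (fun i hi j hj h => hYinj i hi j hj h), sum_congr rfl hXsq, sum_congr rfl hYsq,
      sum_const, sum_const, nsmul_eq_mul, nsmul_eq_mul] at hsum
    have hb : ∑ x, (a x : ℤ) ^ 2 ≤ (Λ.card : ℤ) + M.card := by exact_mod_cast H.bound
    have h3 : (Λ.card : ℤ) ≤ 3 * M.card := by exact_mod_cast H.le_three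
    have h4 : (M.card : ℤ) ≤ Λ.card := by exact_mod_cast H.le
    rcases lt_or_gt_of_ne hcne with hneg | hpos
    · nlinarith [mul_nonneg (show 0 ≤ -c by omega) (show 0 ≤ -c - 1 by omega), hpa]
    · nlinarith [mul_nonneg (show 0 ≤ c by omega) (show 0 ≤ c - 1 by omega), hpa]
  refine ⟨U, V, X, Y, hUV, hX, hY, hXinj, hYinj, hXY, fun i hi j hj => ?_⟩
  have hsign : ∀ {f : C → ℤ} {x : C}, IsTriple f → x ∈ supp f → f x * a x = -1 → f x = -1 := by
    intro f x hf hx h
    rcases hf.sq_eq_one hx with e' | e'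
    · rw [e'] at h; omega
    · exact e'
  have hvX := hsign (H.triv i hi) (x := X i) (by rw [(hX i hi).2.2]; simp)
    (by rw [hXa i hi, hc0]; norm_num)
  have hwY := hsign (H.triw j hj) (x := Y j) (by rw [(hY j hj).2.2]; simp)
    (by rw [hYa j hj, hc0]; norm_num)
  have h1 := H.ve i hi
  have h2 := H.we j hj
  rw [sum_of_supp _ hUV (hX i hi).1.symm (hX i hi).2.1.symm (hX i hi).2.2, (hv i hi).1,
    (hv i hi).2, hvX] at h1
  rw [sum_of_supp _ hUV (hY j hj).1.symm (hY j hj).2.1.symm (hY j hj).2.2, (hw j hj).1,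
    (hw j hj).2, hwY] at h2
  linarith

end Cfsg.Agent.SzChar
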