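import Cfsg.Agent.SzChar.Borel
import Mathlib.GroupTheory.FiniteAbelian.Duality

/-!
# Virtual characters attached to the non-split tori of the Suzuki groups
-/

set_option autoImplicit false
set_option linter.unusedSectionVars false

namespace Cfsg.Agent.SzChar

open Cfsg Cfsg.Agent.Suzuki MulAction
open Cfsg.Agent.Char (irr_charDegree_spec)
open scoped ComplexConjugate

variable {F : Type*} [Field F] [Fintype F] {m : ℕ} [hS : SuzukiField F m]

section

variable (A : Subgroup (Cfsg.Sz F m))

/-- The normaliser of a subgroup. -/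
abbrev normA : Subgroup (Cfsg.Sz F m) := Subgroup.normalizer (A : Set (Cfsg.Sz F m))

/-- Conjugation by an element of the normaliser. -/
def cjA (x : normA A) : A →* A where
  toFun a := ⟨(x : Cfsg.Sz F m)⁻¹ * a * x, mem_normalizer_self_inv x.2 a.2⟩
  map_one' := Subtype.ext (by simp)
  map_mul' a b := Subtype.ext (by simp [mul_assoc])

theorem coe_cjA (x : normA A) (a : A) :
    ((cjA A x a : A) : Cfsg.Sz F m) = (x : Cfsg.Sz F m)⁻¹ * a * x := rfl

theorem cjA_mul (x y : normA A) (a : A) : cjA A (x * y) a = cjA A y (cjA A x a) :=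
  Subtype.ext (by simp [coe_cjA, mul_assoc])

theorem cjA_one (a : A) : cjA A 1 a = a := Subtype.ext (by simp [coe_cjA])

/-- The function `λ - 1` on `A`. -/
noncomputable def torFun (l : A →* ℂˣ) : A → ℂ := fun a => (l a : ℂ) - 1

/-- The virtual character induced from `λ - 1`. -/
noncomputable def torInd (l : A →* ℂˣ) : Cfsg.Sz F m → ℂ :=
  letI := Fintype.ofFinite (Cfsg.Sz F m)
  indFun A (torFun A l)

theorem torInd_isClassFunction (l : A →* ℂˣ) : IsClassFunction (Cfsg.Sz F m) (torInd A l) := by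
  classical
  letI := Fintype.ofFinite (Cfsg.Sz F m)
  exact CharInd.indFun_isClassFunction A _

theorem torInd_one (l : A →* ℂˣ) : torInd A l 1 = 0 := by
  classical
  letI := Fintype.ofFinite (Cfsg.Sz F m)
  rw [torInd, CharInd.indFun_one_apply]
  simp [torFun]

/-- The coefficient of a character in a virtual character. -/
noncomputable def coeff (l : A →* ℂˣ) (χ : IrrCharacter (Cfsg.Sz F m)) : ℤ :=
  let μ : A → ℂ := fun a => (l a : ℂ)
  letI := Fintype.ofFinite A
  ⌊(classInner (fun a : A => (χ : Cfsg.Sz F m → ℂ) a) μ -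
    classInner (fun a : A => (χ : Cfsg.Sz F m → ℂ) a) (fun _ => 1)).re⌋

theorem coeff_spec (l : A →* ℂˣ) (χ : IrrCharacter (Cfsg.Sz F m)) :
    letI := Fintype.ofFinite A
    (coeff A l χ : ℂ) = classInner (fun a : A => (χ : Cfsg.Sz F m → ℂ) a) (fun a => (l a : ℂ)) -
      classInner (fun a : A => (χ : Cfsg.Sz F m → ℂ) a) (fun _ => 1) := by
  letI := Fintype.ofFinite A
  have hr := Char.isCharacter_restrict (Char.isCharacter_of_irr χ.2) A
  obtain ⟨a, ha⟩ := Char.isCharacter_classInner_nat hr
    ⟨_, Char.isIrrCharacter_monoidHom l⟩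
  obtain ⟨b, hb⟩ := Char.isCharacter_classInner_nat hr ⟨_, Char.isIrrCharacter_const_one⟩
  unfold coeff
  simp only at ha hb ⊢
  rw [ha, hb, show ((a : ℂ) - (b : ℂ)) = (((a : ℤ) - b : ℤ) : ℂ) by push_cast; ring,
    Complex.intCast_re, Int.floor_intCast]

theorem classInner_torInd_irr (l : A →* ℂˣ) (χ : IrrCharacter (Cfsg.Sz F m)) :
    letI := Fintype.ofFinite (Cfsg.Sz F m)
    classInner (torInd A l) (χ : Cfsg.Sz F m → ℂ) = (coeff A l χ : ℂ) := by
  classical
  letI := Fintype.ofFinite (Cfsg.Sz F m)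
  letI := Fintype.ofFinite A
  have h : conj (coeff A l χ : ℂ) = (coeff A l χ : ℂ) := map_intCast _ _
  rw [← h, coeff_spec A l χ, map_sub, Char.classInner_conj, Char.classInner_conj, torInd,
    CharInd.classInner_indFun_left A _ (Char.irr_isClassFunction χ.2)]
  exact Char.classInner_sub_left (fun a : A => (l a : ℂ)) (fun _ => 1) _

theorem classInner_torInd_torInd (l l' : A →* ℂˣ) :
    letI := Fintype.ofFinite (Cfsg.Sz F m)
    classInner (torInd A l) (torInd A l') =
      ((∑ χ : IrrCharacter (Cfsg.Sz F m), coeff A l χ * coeff A l' χ : ℤ) : ℂ) := by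
  letI := Fintype.ofFinite (Cfsg.Sz F m)
  rw [Char.classInner_eq_sum_mul_conj (torInd_isClassFunction A l), Int.cast_sum]
  refine Finset.sum_congr rfl fun χ _ => ?_
  rw [classInner_torInd_irr, classInner_torInd_irr, map_intCast, Int.cast_mul]

theorem sum_coeff_mul_degree (l : A →* ℂˣ) :
    ∑ χ : IrrCharacter (Cfsg.Sz F m), coeff A l χ * (charDegree (χ : Cfsg.Sz F m → ℂ) : ℤ) = 0 := by
  letI := Fintype.ofFinite (Cfsg.Sz F m)
  have h := congrFun (Char.eq_sum_classInner_smul (torInd_isClassFunction A l)) 1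
  rw [torInd_one, Finset.sum_apply] at h
  have h1 : ((∑ χ : IrrCharacter (Cfsg.Sz F m),
      coeff A l χ * (charDegree (χ : Cfsg.Sz F m → ℂ) : ℤ) : ℤ) : ℂ) = 0 := by
    rw [Int.cast_sum, h]
    refine Finset.sum_congr rfl fun χ _ => ?_
    rw [Pi.smul_apply, smul_eq_mul, classInner_torInd_irr, (irr_charDegree_spec χ.2).2]
    push_cast
    rfl
  exact_mod_cast h1

end

variable {A : Subgroup (Cfsg.Sz F m)}

theorem torFun_sum (hl : ∀ a b : A, a * b = b * a) (l : A →* ℂˣ) [Fintype A] :
    ∑ a : A, torFun A l a = if l = 1 then 0 else -(Nat.card A : ℂ) := by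
  classical
  rw [show ∑ a : A, torFun A l a = (∑ a : A, (l a : ℂ)) - (Nat.card A : ℂ) by
    simp [torFun, Finset.sum_sub_distrib, Nat.card_eq_fintype_card], sum_unitHom]
  split_ifs <;> simp

/-- Elements of the normaliser outside `A` fix no non-trivial character of `A`. -/
theorem eq_one_of_cjA_fixed (hA : IsTorus A) {x : normA A} (hx : (x : Cfsg.Sz F m) ∉ A)
    {μ : A →* ℂˣ} (h : μ.comp (cjA A x) = μ) : μ = 1 := by
  classical
  have hinj : Function.Injective (fun a : A => a⁻¹ * cjA A x a) := by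
    intro a b hab
    by_contra hne
    have h1 : cjA A x (a * b⁻¹) = a * b⁻¹ := by
      simp only at hab
      rw [map_mul, map_inv, show cjA A x a = a * b⁻¹ * cjA A x b by
        rw [mul_assoc, ← hab, mul_inv_cancel_left], mul_inv_cancel_right]
    have h2 : ((a * b⁻¹ : A) : Cfsg.Sz F m) ≠ 1 := fun h2 => hne (by
      have : a * b⁻¹ = 1 := Subtype.ext h2
      exact mul_inv_eq_one.1 this)
    apply hx
    have h5 : (x : Cfsg.Sz F m) ∈
        Subgroup.centralizer ({((a * b⁻¹ : A) : Cfsg.Sz F m)} : Set (Cfsg.Sz F m)) := by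
      rw [Subgroup.mem_centralizer_singleton_iff]
      have h3 := congrArg Subtype.val h1
      rw [coe_cjA] at h3
      have h4 := congrArg (fun g => (x : Cfsg.Sz F m) * g) h3
      simp only [← mul_assoc, mul_inv_cancel, one_mul] at h4
      exact h4.symm
    rwa [(hA.semireg (a * b⁻¹).2 h2).2] at h5
  refine MonoidHom.ext fun a => ?_
  obtain ⟨b, rfl⟩ := (Finite.injective_iff_surjective.1 hinj) a
  show μ (b⁻¹ * cjA A x b) = 1
  rw [map_mul, map_inv, ← MonoidHom.comp_apply, h, inv_mul_cancel]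

theorem cjA_of_mem (hA : IsTorus A) {x : normA A} (hx : (x : Cfsg.Sz F m) ∈ A) (a : A) :
    cjA A x a = a := by
  letI := hA.isCyclic.commGroup
  refine Subtype.ext ?_
  rw [coe_cjA]
  have h := congrArg Subtype.val (mul_comm a ⟨(x : Cfsg.Sz F m), hx⟩)
  simp only [Subgroup.coe_mul] at h
  rw [mul_assoc, h, inv_mul_cancel_left]

open Classical in
/-- The inner products of the virtual characters from one torus. -/
theorem classInner_torInd (hA : IsTorus A) (hN : Nat.card (normA A) = 4 * Nat.card A)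
    {l l' : A →* ℂˣ} (hl : l ≠ 1) (hl' : l' ≠ 1) :
    letI := Fintype.ofFinite (Cfsg.Sz F m)
    letI := Fintype.ofFinite (normA A)
    classInner (torInd A l) (torInd A l') =
      4 + (Nat.card {x : normA A // l'.comp (cjA A x) = l} : ℂ) / (Nat.card A : ℂ) := by
  letI := Fintype.ofFinite (Cfsg.Sz F m)
  letI := Fintype.ofFinite A
  letI := Fintype.ofFinite (normA A)
  rw [torInd, torInd, CharInd.classInner_indFun_indFun]
  have hzero : ∀ x : Cfsg.Sz F m, x ∉ normA A →
      ∑ a : A, torFun A l a * conj (extendByZero A (torFun A l') (x⁻¹ * a * x)) = 0 := by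
    intro x hx
    refine Finset.sum_eq_zero fun a _ => ?_
    by_cases ha : a = 1
    · subst ha; simp [torFun]
    · rw [CharInd.extendByZero_notMem, map_zero, mul_zero]
      intro hmem
      apply hx
      have h := hA.TI hA x⁻¹ a a.2 (fun h => ha (Subtype.ext h)) (by rwa [inv_inv])
      rw [← inv_inv x]
      refine inv_mem (Subgroup.mem_normalizer_iff.2 fun y => ?_)
      exact h y
  rw [← Finset.sum_subset (s₁ := Finset.univ.filter fun x => x ∈ normA A) (Finset.subset_univ _)
    fun x _ hx => hzero x (by simpa using hx)]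
  rw [← Finset.sum_subtype_of_mem (p := fun x => x ∈ normA A)
    (fun x : Cfsg.Sz F m => ∑ a : A, torFun A l a *
      conj (extendByZero A (torFun A l') (x⁻¹ * a * x))) (fun x hx => (Finset.mem_filter.1 hx).2)]
  rw [show (Finset.univ.filter fun x => x ∈ normA A).subtype (fun x => x ∈ normA A) = Finset.univ
    from Finset.ext fun x => by simp [x.2]]
  have hterm : ∀ x : normA A, ∑ a : A, torFun A l a *
      conj (extendByZero A (torFun A l') ((x : Cfsg.Sz F m)⁻¹ * a * x)) =
      (Nat.card A : ℂ) + if l'.comp (cjA A x) = l then (Nat.card A : ℂ) else 0 := by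
    intro x
    have h1 : ∀ a : A, torFun A l a *
        conj (extendByZero A (torFun A l') ((x : Cfsg.Sz F m)⁻¹ * a * x)) =
        ((l * (l'.comp (cjA A x))⁻¹) a : ℂ) - (l a : ℂ) -
          ((l'.comp (cjA A x))⁻¹ a : ℂ) + 1 := by
      intro a
      rw [← coe_cjA A x a, CharInd.extendByZero_coe]
      simp only [torFun, map_sub, map_one, conj_unitHom, MonoidHom.mul_apply,
        MonoidHom.inv_apply, MonoidHom.comp_apply, map_inv, Units.val_mul]
      ring
    have hne : (l'.comp (cjA A x))⁻¹ ≠ 1 := by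
      intro h
      apply hl'
      refine MonoidHom.ext fun a => ?_
      have h2 := DFunLike.congr_fun h (cjA A x⁻¹ a)
      rw [MonoidHom.inv_apply, MonoidHom.comp_apply, ← cjA_mul, inv_mul_cancel, cjA_one] at h2
      exact inv_eq_one.1 h2
    rw [Finset.sum_congr rfl fun a _ => h1 a, Finset.sum_add_distrib, Finset.sum_sub_distrib,
      Finset.sum_sub_distrib, Char.monoidHom_sum_eq_zero hl, Char.monoidHom_sum_eq_zero hne,
      sum_unitHom, Finset.sum_const, Finset.card_univ, ← Nat.card_eq_fintype_card, nsmul_one]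
    have hiff : l * (l'.comp (cjA A x))⁻¹ = 1 ↔ l'.comp (cjA A x) = l := by
      constructor
      · intro h
        refine MonoidHom.ext fun a => ?_
        exact (mul_inv_eq_one.1 (DFunLike.congr_fun h a)).symm
      · intro h
        rw [h]
        exact MonoidHom.ext fun a => mul_inv_cancel _
    simp only [hiff]
    ring
  rw [Finset.sum_congr rfl fun x _ => hterm x, Finset.sum_add_distrib, Finset.sum_const,
    ← Finset.sum_filter, Finset.sum_const, Finset.card_univ, ← Nat.card_eq_fintype_card, hN,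
    nsmul_eq_mul, nsmul_eq_mul]
  have h0 : (Nat.card A : ℂ) ≠ 0 := Nat.cast_ne_zero.2 Nat.card_pos.ne'
  rw [Nat.card_eq_fintype_card (α := {x : normA A // l'.comp (cjA A x) = l}), Fintype.card_subtype]
  push_cast
  field_simp

/-- The stabiliser of a non-trivial character is `A`. -/
theorem card_fixed (hA : IsTorus A) {l : A →* ℂˣ} (hl : l ≠ 1) :
    Nat.card {x : normA A // l.comp (cjA A x) = l} = Nat.card A := by
  refine Nat.card_congr
    { toFun := fun x => ⟨(x.1 : Cfsg.Sz F m), by
        by_contra h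
        exact hl (eq_one_of_cjA_fixed hA h x.2)⟩
      invFun := fun a => ⟨⟨a, Subgroup.le_normalizer a.2⟩,
        MonoidHom.ext fun b => by
          rw [MonoidHom.comp_apply, cjA_of_mem hA (x := ⟨a, Subgroup.le_normalizer a.2⟩) a.2]⟩
      left_inv := fun x => rfl
      right_inv := fun a => rfl }

theorem sum_coeff_sq (hA : IsTorus A) (hN : Nat.card (normA A) = 4 * Nat.card A)
    {l : A →* ℂˣ} (hl : l ≠ 1) :
    ∑ χ : IrrCharacter (Cfsg.Sz F m), coeff A l χ * coeff A l χ = 5 := by
  classical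
  have h1 := classInner_torInd hA hN hl hl
  rw [classInner_torInd_torInd] at h1
  rw [card_fixed hA hl, div_self (Nat.cast_ne_zero.2 Nat.card_pos.ne')] at h1
  norm_num at h1
  exact_mod_cast h1

theorem sum_coeff_mul (hA : IsTorus A) (hN : Nat.card (normA A) = 4 * Nat.card A)
    {l l' : A →* ℂˣ} (hl : l ≠ 1) (hl' : l' ≠ 1) (hne : ∀ x, l'.comp (cjA A x) ≠ l) :
    ∑ χ : IrrCharacter (Cfsg.Sz F m), coeff A l χ * coeff A l' χ = 4 := by
  classical
  have h1 := classInner_torInd hA hN hl hl'
  rw [classInner_torInd_torInd] at h1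
  haveI : IsEmpty {x : normA A // l'.comp (cjA A x) = l} := ⟨fun x => hne x.1 x.2⟩
  rw [Nat.card_of_isEmpty] at h1
  norm_num at h1
  exact_mod_cast h1

/-- Virtual characters from tori of coprime orders are orthogonal. -/
theorem sum_coeff_cross {B : Subgroup (Cfsg.Sz F m)}
    (hcop : (Nat.card A).Coprime (Nat.card B)) (l : A →* ℂˣ) (l' : B →* ℂˣ) :
    ∑ χ : IrrCharacter (Cfsg.Sz F m), coeff A l χ * coeff B l' χ = 0 := by
  classical
  letI := Fintype.ofFinite (Cfsg.Sz F m)
  letI := Fintype.ofFinite A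
  have h : classInner (torInd A l) (torInd B l') = 0 := by
    rw [torInd, torInd, CharInd.classInner_indFun_indFun, Finset.sum_eq_zero, mul_zero]
    intro x _
    refine Finset.sum_eq_zero fun a _ => ?_
    by_cases ha : a = 1
    · subst ha; simp [torFun]
    · rw [CharInd.extendByZero_notMem, map_zero, mul_zero]
      intro hmem
      apply ha
      have h1 : orderOf (a : Cfsg.Sz F m) ∣ Nat.card B := by
        have h2 : orderOf (x⁻¹ * (a : Cfsg.Sz F m) * x) = orderOf (a : Cfsg.Sz F m) := by
          have := (MulAut.conj x⁻¹).toMonoidHom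
          simpa using orderOf_injective (MulAut.conj x⁻¹).toMonoidHom
            (MulAut.conj x⁻¹).injective (a : Cfsg.Sz F m)
        rw [← h2]
        exact Subgroup.orderOf_dvd_natCard _ hmem
      exact Subtype.ext (orderOf_eq_one_iff.1
        (Nat.eq_one_of_dvd_coprimes hcop (Subgroup.orderOf_dvd_natCard _ a.2) h1))
  have h3 : ((∑ χ : IrrCharacter (Cfsg.Sz F m), coeff A l χ * coeff B l' χ : ℤ) : ℂ) = 0 := by
    rw [← h, Char.classInner_eq_sum_mul_conj (torInd_isClassFunction A l), Int.cast_sum]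
    refine Finset.sum_congr rfl fun χ _ => ?_
    rw [classInner_torInd_irr, classInner_torInd_irr, map_intCast, Int.cast_mul]
  exact_mod_cast h3

/-- The multiplicity of the fixed linear character of the unipotent group. -/
noncomputable def aMult (χ : IrrCharacter (Cfsg.Sz F m)) : ℕ :=
  letI := Fintype.ofFinite (unip F m)
  ⌊(classInner (fun p : unip F m => (χ : Cfsg.Sz F m → ℂ) p)
    (fun p => (unipLin F m p : ℂ))).re⌋.toNat

theorem aMult_spec (χ : IrrCharacter (Cfsg.Sz F m)) :
    letI := Fintype.ofFinite (unip F m)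
    classInner (fun p : unip F m => (χ : Cfsg.Sz F m → ℂ) p) (fun p => (unipLin F m p : ℂ)) =
      (aMult χ : ℂ) := by
  letI := Fintype.ofFinite (unip F m)
  obtain ⟨n, hn⟩ := Char.isCharacter_classInner_nat
    (Char.isCharacter_restrict (Char.isCharacter_of_irr χ.2) (unip F m))
    ⟨_, Char.isIrrCharacter_monoidHom (unipLin F m)⟩
  unfold aMult
  simp only at hn ⊢
  rw [hn, Complex.natCast_re, Int.floor_natCast, Int.toNat_natCast]

theorem classInner_irr_indUnipLin (χ : IrrCharacter (Cfsg.Sz F m)) :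
    letI := Fintype.ofFinite (Cfsg.Sz F m)
    classInner (indFun (unip F m) fun g => (unipLin F m g : ℂ)) (χ : Cfsg.Sz F m → ℂ) =
      (aMult χ : ℂ) := by
  classical
  letI := Fintype.ofFinite (Cfsg.Sz F m)
  letI := Fintype.ofFinite (unip F m)
  rw [CharInd.classInner_indFun_left _ _ (Char.irr_isClassFunction χ.2), ← Char.classInner_conj,
    aMult_spec, map_natCast]

theorem sum_aMult_sq :
    ∑ χ : IrrCharacter (Cfsg.Sz F m), aMult χ ^ 2 = Fintype.card F := by
  classical
  letI := Fintype.ofFinite (Cfsg.Sz F m)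
  have h := norm_indUnipLin (F := F) (m := m)
  rw [Char.classInner_eq_sum_mul_conj (CharInd.indFun_isClassFunction _ _)] at h
  simp only [classInner_irr_indUnipLin, map_natCast] at h
  have h1 : ((∑ χ : IrrCharacter (Cfsg.Sz F m), aMult χ ^ 2 : ℕ) : ℂ) = (Fintype.card F : ℂ) := by
    rw [← h, Nat.cast_sum]
    exact Finset.sum_congr rfl fun χ _ => by push_cast; ring
  exact_mod_cast h1

theorem sum_coeff_mul_aMult (hA : IsTorus A) (l : A →* ℂˣ) :
    ∑ χ : IrrCharacter (Cfsg.Sz F m), coeff A l χ * (aMult χ : ℤ) = 0 := by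
  classical
  letI := Fintype.ofFinite (Cfsg.Sz F m)
  letI := Fintype.ofFinite (unip F m)
  have h : classInner (torInd A l) (indFun (unip F m) fun g => (unipLin F m g : ℂ)) = 0 := by
    rw [CharInd.classInner_indFun_right _ _ (torInd_isClassFunction A l), classInner,
      Finset.sum_eq_zero, mul_zero]
    intro p _
    have h0 : torInd A l p = 0 := by
      by_cases hp : (p : Cfsg.Sz F m) = 1
      · rw [hp, torInd_one]
      · rw [torInd]
        refine CharInd.indFun_eq_zero_of_forall A _ fun x hx => ?_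
        obtain ⟨a, b, hab⟩ := p.2
        apply (hA.semireg hx (fun h1 => hp ?_)).1 (x⁻¹ • oInf F m)
        · rw [← mul_smul, mul_inv_cancel_right, mul_smul, hab, gT_smul_oInf]
        · have := congrArg (fun g => x * g * x⁻¹) h1
          simpa [mul_assoc] using this
    rw [h0, zero_mul]
  rw [Char.classInner_eq_sum_mul_conj (torInd_isClassFunction A l)] at h
  simp only [classInner_torInd_irr, classInner_irr_indUnipLin, map_natCast] at h
  exact_mod_cast h

/-- A character with all coefficients zero has degree divisible by the order of `A`. -/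
theorem card_dvd_of_coeff_eq_zero (hA : IsTorus A) (χ : IrrCharacter (Cfsg.Sz F m))
    (h : ∀ l : A →* ℂˣ, l ≠ 1 → coeff A l χ = 0) :
    Nat.card A ∣ charDegree (χ : Cfsg.Sz F m → ℂ) := by
  classical
  letI := Fintype.ofFinite A
  set c : ℂ := classInner (fun a : A => (χ : Cfsg.Sz F m → ℂ) a) (fun _ => 1) with hc
  obtain ⟨n, hn⟩ := Char.isCharacter_classInner_nat
    (Char.isCharacter_restrict (Char.isCharacter_of_irr χ.2) A)
    ⟨_, Char.isIrrCharacter_const_one⟩
  simp only at hn
  letI := hA.isCyclic.commGroup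
  have hcomm : ∀ a b : A, a * b = b * a := mul_comm
  haveI : Finite (A →* ℂˣ) := Char.monoidHom_complex_finite
  letI := Fintype.ofFinite (A →* ℂˣ)
  have hall : ∀ l : A →* ℂˣ,
      classInner (fun a : A => (χ : Cfsg.Sz F m → ℂ) a) (fun a => (l a : ℂ)) = c := by
    intro l
    by_cases hl : l = 1
    · subst hl
      rw [hc]
      congr 1
    · have h1 := coeff_spec A l χ
      rw [h l hl, Int.cast_zero, eq_comm, sub_eq_zero] at h1
      exact h1
  refine ⟨n, ?_⟩
  have hres := Char.irr_isClassFunction χ.2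
  have h2 := congrFun (Char.eq_sum_classInner_smul (f := fun a : A => (χ : Cfsg.Sz F m → ℂ) a)
    (fun g h => hres g h)) 1
  rw [Finset.sum_apply] at h2
  simp only [Pi.smul_apply, smul_eq_mul, OneMemClass.coe_one] at h2
  rw [(irr_charDegree_spec χ.2).2] at h2
  have h3 : ∀ ψ : IrrCharacter A,
      classInner (fun a : A => (χ : Cfsg.Sz F m → ℂ) a) (ψ : A → ℂ) * (ψ : A → ℂ) 1 = c := by
    intro ψ
    obtain ⟨f, hf⟩ := Char.irr_exists_monoidHom_of_comm hcomm ψ.2
    rw [show (ψ : A → ℂ) = fun g => ((f g : ℂˣ) : ℂ) from funext fun g => by simp [hf]]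
    rw [hall f]
    simp
  rw [Finset.sum_congr rfl fun ψ _ => h3 ψ, Finset.sum_const, Finset.card_univ, nsmul_eq_mul] at h2
  have hcard : Fintype.card (IrrCharacter A) = Nat.card A := by
    have h4 := Char.sum_irr_degree_sq (G := A)
    rw [Finset.sum_congr rfl (fun (ψ : IrrCharacter A) _ => show (ψ : A → ℂ) 1 ^ 2 = 1 by
      rw [Char.irr_degree_one_of_comm hcomm ψ.2, one_pow]), Finset.sum_const, Finset.card_univ,
      nsmul_one] at h4
    exact_mod_cast h4
  rw [hcard, hc, hn] at h2
  exact_mod_cast h2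

/-- Representatives of the characters of `A` up to the action of the normaliser. -/
theorem exists_reps (hA : IsTorus A) (hN : Nat.card (normA A) = 4 * Nat.card A) :
    ∃ R : Finset (A →* ℂˣ), 4 * R.card + 1 = Nat.card A ∧ (∀ l ∈ R, l ≠ 1) ∧
      (∀ l ∈ R, ∀ l' ∈ R, l ≠ l' → ∀ x, l'.comp (cjA A x) ≠ l) ∧
      ∀ l : A →* ℂˣ, l ≠ 1 → ∃ l' ∈ R, ∃ x, l'.comp (cjA A x) = l := by
  classical
  haveI : Finite (A →* ℂˣ) := Char.monoidHom_complex_finite
  letI := Fintype.ofFinite (A →* ℂˣ)
  letI := Fintype.ofFinite (normA A)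
  let good : Finset (A →* ℂˣ) → Prop := fun R => (∀ l ∈ R, l ≠ 1) ∧
    ∀ l ∈ R, ∀ l' ∈ R, l ≠ l' → ∀ x, l'.comp (cjA A x) ≠ l
  obtain ⟨R, hR, hmax⟩ := Finset.exists_max_image (Finset.univ.filter good) Finset.card
    ⟨∅, by simp [good]⟩
  obtain ⟨hR1, hR2⟩ := (Finset.mem_filter.1 hR).2
  have hcomp : ∀ (l : A →* ℂˣ) (x y : normA A),
      (l.comp (cjA A x)).comp (cjA A y) = l.comp (cjA A (y * x)) := fun l x y =>
    MonoidHom.ext fun a => by simp only [MonoidHom.comp_apply, cjA_mul]
  have hone : ∀ l : A →* ℂˣ, l.comp (cjA A 1) = l := fun l => MonoidHom.ext fun a => by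
    rw [MonoidHom.comp_apply, cjA_one]
  have hcover : ∀ l : A →* ℂˣ, l ≠ 1 → ∃ l' ∈ R, ∃ x, l'.comp (cjA A x) = l := by
    intro l hl
    by_contra hcon
    push Not at hcon
    have hlR : l ∉ R := fun h => hcon l h 1 (hone l)
    have hg : good (insert l R) := by
      refine ⟨fun k hk => (Finset.mem_insert.1 hk).elim (fun h => h ▸ hl) (hR1 k),
        fun k hk k' hk' hkk' x hx => ?_⟩
      rcases Finset.mem_insert.1 hk with e1 | e1 <;>
        rcases Finset.mem_insert.1 hk' with e2 | e2
      · exact hkk' (e1.trans e2.symm)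
      · exact hcon k' e2 x (hx.trans e1)
      · refine hcon k e1 x⁻¹ ?_
        rw [← hx, hcomp, inv_mul_cancel, hone, e2]
      · exact hR2 k e1 k' e2 hkk' x hx
    have := hmax (insert l R) (Finset.mem_filter.2 ⟨Finset.mem_univ _, hg⟩)
    rw [Finset.card_insert_of_notMem hlR] at this
    omega
  refine ⟨R, ?_, hR1, hR2, hcover⟩
  set O : (A →* ℂˣ) → Finset (A →* ℂˣ) := fun l =>
    Finset.univ.image fun x : normA A => l.comp (cjA A x) with hO
  have hcardO : ∀ l ∈ R, (O l).card = 4 := by
    intro l hl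
    have hfib : ∀ k ∈ O l,
        (Finset.univ.filter fun x : normA A => l.comp (cjA A x) = k).card = Nat.card A := by
      intro k hk
      obtain ⟨y, -, rfl⟩ := Finset.mem_image.1 hk
      rw [← card_fixed hA (hR1 l hl), Nat.card_eq_fintype_card, Fintype.card_subtype]
      refine (Finset.card_bij' (fun x _ => y * x) (fun x _ => y⁻¹ * x) ?_ ?_ ?_ ?_).symm
      · intro x hx
        simp only [Finset.mem_filter, Finset.mem_univ, true_and] at hx ⊢
        rw [← hcomp, hx]
      · intro x hx
        simp only [Finset.mem_filter, Finset.mem_univ, true_and] at hx ⊢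
        rw [← hcomp, hx, hcomp, inv_mul_cancel, hone]
      · intro x _; simp
      · intro x _; simp
    have h := Finset.card_eq_sum_card_fiberwise (s := (Finset.univ : Finset (normA A))) (t := O l)
      (f := fun x => l.comp (cjA A x)) (fun x _ => Finset.mem_image.2 ⟨x, Finset.mem_univ _, rfl⟩)
    rw [Finset.sum_congr rfl hfib, Finset.sum_const, smul_eq_mul, Finset.card_univ,
      ← Nat.card_eq_fintype_card, hN] at h
    exact (Nat.eq_of_mul_eq_mul_right Nat.card_pos h).symm
  have hunion : R.biUnion O = Finset.univ.erase 1 := by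
    ext k
    simp only [Finset.mem_biUnion, Finset.mem_erase, Finset.mem_univ, and_true]
    constructor
    · rintro ⟨l, hl, hk⟩
      obtain ⟨x, -, rfl⟩ := Finset.mem_image.1 hk
      intro h
      apply hR1 l hl
      rw [← hone l, ← inv_mul_cancel x, ← hcomp, h]
      rfl
    · intro hk
      obtain ⟨l, hl, x, hx⟩ := hcover k hk
      exact ⟨l, hl, Finset.mem_image.2 ⟨x, Finset.mem_univ _, hx⟩⟩
  have hdisj : (R : Set (A →* ℂˣ)).PairwiseDisjoint O := by
    intro l hl l' hl' hne
    rw [Function.onFun, Finset.disjoint_left]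
    intro k hk hk'
    obtain ⟨x, -, rfl⟩ := Finset.mem_image.1 hk
    obtain ⟨y, -, hy⟩ := Finset.mem_image.1 hk'
    refine hR2 l hl l' hl' hne (x⁻¹ * y) ?_
    rw [← hcomp, hy, hcomp, inv_mul_cancel, hone]
  have h := Finset.card_biUnion hdisj
  rw [hunion, Finset.sum_congr rfl hcardO, Finset.sum_const, smul_eq_mul,
    Finset.card_erase_of_mem (Finset.mem_univ _), Finset.card_univ,
    ← Nat.card_eq_fintype_card] at h
  have hdual : Nat.card (A →* ℂˣ) = Nat.card A := by
    letI := hA.isCyclic.commGroup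
    exact CommGroup.card_monoidHom_of_hasEnoughRootsOfUnity A ℂ
  rw [hdual] at h
  have := Nat.card_pos (α := A)
  omega

theorem coeff_cjA (l : A →* ℂˣ) (x : normA A) (χ : IrrCharacter (Cfsg.Sz F m)) :
    coeff A (l.comp (cjA A x)) χ = coeff A l χ := by
  classical
  letI := Fintype.ofFinite A
  have key : classInner (fun a : A => (χ : Cfsg.Sz F m → ℂ) a)
      (fun a => ((l.comp (cjA A x)) a : ℂ)) =
      classInner (fun a : A => (χ : Cfsg.Sz F m → ℂ) a) (fun a => (l a : ℂ)) := by
    let e : A ≃ A :=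
      { toFun := cjA A x
        invFun := cjA A x⁻¹
        left_inv := fun a => by rw [← cjA_mul, mul_inv_cancel, cjA_one]
        right_inv := fun a => by rw [← cjA_mul, inv_mul_cancel, cjA_one] }
    rw [classInner, classInner]
    congr 1
    conv_rhs => rw [← Equiv.sum_comp e]
    refine Finset.sum_congr rfl fun a _ => ?_
    show _ = (χ : Cfsg.Sz F m → ℂ) ((x : Cfsg.Sz F m)⁻¹ * a * x) * _
    have h := Char.irr_isClassFunction χ.2 (a : Cfsg.Sz F m) (x : Cfsg.Sz F m)⁻¹
    rw [inv_inv] at h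
    rw [h]
    rfl
  have h1 := coeff_spec A (l.comp (cjA A x)) χ
  rw [key, ← coeff_spec A l χ] at h1
  exact_mod_cast h1

theorem coeff_theta (hA : IsTorus A) (l : A →* ℂˣ) {χ : IrrCharacter (Cfsg.Sz F m)}
    {ν : Fˣ →* ℂˣ} (hχ : (χ : Cfsg.Sz F m → ℂ) = theta ν) (hl : l ≠ 1) (hν : ν ≠ 1) :
    coeff A l χ = 0 := by
  classical
  letI := Fintype.ofFinite A
  have h := coeff_spec A l χ
  have hsum : classInner (fun a : A => (χ : Cfsg.Sz F m → ℂ) a) (fun a => (l a : ℂ)) =
      classInner (fun a : A => (χ : Cfsg.Sz F m → ℂ) a) (fun _ => 1) := by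
    rw [classInner, classInner]
    congr 1
    refine Finset.sum_congr rfl fun a _ => ?_
    by_cases ha : a = 1
    · subst ha; simp
    · rw [hχ, theta_semireg ν (hA.semireg a.2 fun h => ha (Subtype.ext h)).1, zero_mul, zero_mul]
  rw [hsum, sub_self] at h
  exact_mod_cast h

theorem coeff_one (l : A →* ℂˣ) (hl : l ≠ 1) {χ : IrrCharacter (Cfsg.Sz F m)}
    (hχ : (χ : Cfsg.Sz F m → ℂ) = fun _ => 1) : coeff A l χ = -1 := by
  classical
  letI := Fintype.ofFinite A
  have h := coeff_spec A l χ
  rw [hχ, Char.classInner_irr_ne Char.isIrrCharacter_const_one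
    (Char.isIrrCharacter_monoidHom l) (fun h1 => hl (Char.monoidHom_coe_injective
      (by funext a; exact (congrFun h1 a).symm))),
    Char.classInner_irr_self Char.isIrrCharacter_const_one, zero_sub] at h
  exact_mod_cast h

theorem coeff_steinberg (hA : IsTorus A) (l : A →* ℂˣ) (hl : l ≠ 1)
    {χ : IrrCharacter (Cfsg.Sz F m)} (hχ : (χ : Cfsg.Sz F m → ℂ) = steinberg F m) :
    coeff A l χ = 1 := by
  classical
  letI := Fintype.ofFinite A
  have h := coeff_spec A l χ
  have hval : ∀ a : A, (χ : Cfsg.Sz F m → ℂ) a * (conj (l a : ℂ) - 1) = -(conj (l a : ℂ) - 1) := by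
    intro a
    by_cases ha : a = 1
    · subst ha; simp
    · rw [hχ, steinberg, Pi.sub_apply,
        theta_semireg 1 (hA.semireg a.2 fun h => ha (Subtype.ext h)).1]
      ring
  have h2 : classInner (fun a : A => (χ : Cfsg.Sz F m → ℂ) a) (fun a => (l a : ℂ)) -
      classInner (fun a : A => (χ : Cfsg.Sz F m → ℂ) a) (fun _ => 1) = 1 := by
    rw [classInner, classInner, ← mul_sub, ← Finset.sum_sub_distrib]
    simp only [map_one, ← mul_sub]
    rw [Finset.sum_congr rfl fun a _ => hval a, Finset.sum_neg_distrib, Finset.sum_sub_distrib,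
      ← map_sum, Char.monoidHom_sum_eq_zero hl, map_zero, zero_sub, neg_neg, Finset.sum_const,
      Finset.card_univ, nsmul_one, ← Nat.card_eq_fintype_card]
    exact inv_mul_cancel₀ (Nat.cast_ne_zero.2 Nat.card_pos.ne')
  rw [h2] at h
  exact_mod_cast h

end Cfsg.Agent.SzChar
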