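import Cfsg.Agent.SzChar.Columns
import Cfsg.Agent.BlocksChar.ClassProd

/-!
# Products of two conjugates in the Suzuki groups
-/

set_option autoImplicit false
set_option linter.unusedSectionVars false
set_option linter.style.haveILetI false

namespace Cfsg.Agent.SzChar

open Cfsg Cfsg.Agent.Suzuki MulAction
open scoped ComplexConjugate

/-- A non-zero class product sum exhibits a product of two conjugates. -/
theorem exists_conj_mul_conj {G : Type*} [Group G] [Finite G] (x g : G)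
    (h : ∑ χ : IrrCharacter G, (χ : G → ℂ) x * (χ : G → ℂ) x * conj ((χ : G → ℂ) g) /
      (χ : G → ℂ) 1 ≠ 0) : ∃ u v : G, g = (u * x * u⁻¹) * (v * x * v⁻¹) := by
  classical
  letI := Fintype.ofFinite G
  by_contra hne
  refine h ?_
  have h0 : ∀ y : G, ∑ χ : IrrCharacter G,
      (χ : G → ℂ) (x * (y * x * y⁻¹)) * conj ((χ : G → ℂ) g) = 0 := by
    intro y
    rw [Char.sum_irr_mul_conj, if_neg]
    intro hc
    obtain ⟨c, hc⟩ := isConj_iff.1 hc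
    refine hne ⟨c, c * y, ?_⟩
    rw [← hc]; group
  have h1 : ∑ y : G, ∑ χ : IrrCharacter G,
      (χ : G → ℂ) (x * (y * x * y⁻¹)) * conj ((χ : G → ℂ) g) = 0 :=
    Finset.sum_eq_zero fun y _ => h0 y
  rw [Finset.sum_comm] at h1
  simp only [← Finset.sum_mul, fun χ : IrrCharacter G => BlocksChar.sum_conj_mul χ.2 x x] at h1
  have hG : (Nat.card G : ℂ) ≠ 0 := Nat.cast_ne_zero.2 Nat.card_pos.ne'
  apply mul_left_cancel₀ hG
  rw [mul_zero, Finset.mul_sum, ← h1]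
  exact Finset.sum_congr rfl fun χ _ => by ring

theorem ne_zero_of_norm_lt {r : ℝ} {z : ℂ} (h : ‖z‖ < r) : (r : ℂ) + z ≠ 0 := by
  intro h0
  have : z = -(r : ℂ) := eq_neg_of_add_eq_zero_right h0
  rw [this, norm_neg, Complex.norm_real, Real.norm_eq_abs] at h
  exact absurd h (not_lt.2 (le_abs_self r))

theorem norm_div_real_le {z : ℂ} {d c : ℝ} (hd : 0 < d) (hz : ‖z‖ ≤ c) :
    ‖z / (d : ℂ)‖ ≤ c / d := by
  rw [norm_div, Complex.norm_real, Real.norm_eq_abs, abs_of_pos hd]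
  exact div_le_div_of_nonneg_right hz hd.le

theorem norm_sum_mul_le {ι : Type*} (s : Finset ι) (f g : ι → ℂ) {M c : ℝ} (hM : 0 ≤ M)
    (hf : ∑ i ∈ s, ‖f i‖ ^ 2 ≤ c) (hg : ∀ i ∈ s, ‖g i‖ ≤ M) :
    ‖∑ i ∈ s, f i * f i * conj (g i)‖ ≤ c * M := by
  refine (norm_sum_le _ _).trans ?_
  refine le_trans (Finset.sum_le_sum (g := fun i => ‖f i‖ ^ 2 * M) fun i hi => ?_) ?_
  · rw [norm_mul, norm_mul, Complex.norm_conj, ← sq]
    exact mul_le_mul_of_nonneg_left (hg i hi) (sq_nonneg _)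
  · rw [← Finset.sum_mul]
    exact mul_le_mul_of_nonneg_right hf hM

variable {F : Type*} [Field F] [Fintype F] {m : ℕ} [hS : SuzukiField F m]

namespace Table

variable (T : Table F m)

/-- `g` is a chosen representative of a class of involutions. -/
def IsInv (g : Cfsg.Sz F m) : Prop := ∃ b : F, b ≠ 0 ∧ g = gT 0 b

/-- `g` is a chosen representative of a class of elements of order four. -/
def IsFour (g : Cfsg.Sz F m) : Prop := ∃ a b : F, a ≠ 0 ∧ g = gT a b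

/-- `g` is a non-trivial element of the split torus. -/
def IsSplit (g : Cfsg.Sz F m) : Prop := ∃ l : Fˣ, l ≠ 1 ∧ g = gD l

theorem exists_rep {g : Cfsg.Sz F m} (hg : g ≠ 1) : ∃ k : Cfsg.Sz F m,
    IsInv (k⁻¹ * g * k) ∨ IsFour (k⁻¹ * g * k) ∨ IsSplit (k⁻¹ * g * k) ∨
      (k⁻¹ * g * k ∈ T.A ∧ k⁻¹ * g * k ≠ 1) ∨ (k⁻¹ * g * k ∈ T.B ∧ k⁻¹ * g * k ≠ 1) := by
  have hne : ∀ k : Cfsg.Sz F m, k⁻¹ * g * k ≠ 1 := fun k h => hg (by
    calc g = k * (k⁻¹ * g * k) * k⁻¹ := by group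
      _ = 1 := by rw [h]; group)
  rcases trichotomy hg with ⟨-, k, a, b, hab⟩ | ⟨-, k, hk⟩ | hs
  · refine ⟨k, ?_⟩
    by_cases ha : a = 0
    · refine Or.inl ⟨b, fun hb => hne k ?_, by rw [hab, ha]⟩
      rw [hab, ha, hb, gT_zero]
    · exact Or.inr (Or.inl ⟨a, b, ha, hab⟩)
  · obtain ⟨l, hl⟩ := exists_of_mem_torus hk
    refine ⟨k, Or.inr (Or.inr (Or.inl ⟨l, fun h => hne k ?_, hl⟩))⟩
    rw [hl, h, gD_one]
  · rcases T.cover g hs with ⟨-, k, hk⟩ | ⟨-, k, hk⟩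
    · exact ⟨k, Or.inr (Or.inr (Or.inr (Or.inl ⟨hk, hne k⟩)))⟩
    · exact ⟨k, Or.inr (Or.inr (Or.inr (Or.inr ⟨hk, hne k⟩)))⟩

/-- The class of a representative. -/
def IsRep (g : Cfsg.Sz F m) : Prop :=
  IsInv g ∨ IsFour g ∨ IsSplit g ∨ (g ∈ T.A ∧ g ≠ 1) ∨ (g ∈ T.B ∧ g ≠ 1)

theorem sum_norm_A_le {a : Cfsg.Sz F m} (ha : a ∈ T.A) (ha1 : a ≠ 1)
    {χ : IrrCharacter (Cfsg.Sz F m)} (hχ : χ ∈ T.XS) :
    ‖(χ : Cfsg.Sz F m → ℂ) a‖ ≤ 2 * rs m := by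
  have h1 := Finset.single_le_sum (f := fun χ : IrrCharacter (Cfsg.Sz F m) =>
    ‖(χ : Cfsg.Sz F m → ℂ) a‖ ^ 2) (fun _ _ => sq_nonneg _) hχ
  simp only [T.norm_A ha ha1] at h1
  have hs := two_le_rs (F := F) (m := m)
  rw [rq_eq (m := m)] at h1
  refine (pow_le_pow_iff_left₀ (norm_nonneg _) (by linarith) two_ne_zero).1 ?_
  nlinarith [sq_nonneg (rs m - 1)]

theorem sum_norm_B_le {a : Cfsg.Sz F m} (ha : a ∈ T.B) (ha1 : a ≠ 1)
    {χ : IrrCharacter (Cfsg.Sz F m)} (hχ : χ ∈ T.YS) :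
    ‖(χ : Cfsg.Sz F m → ℂ) a‖ ≤ 2 * rs m + 1 := by
  have h1 := Finset.single_le_sum (f := fun χ : IrrCharacter (Cfsg.Sz F m) =>
    ‖(χ : Cfsg.Sz F m → ℂ) a‖ ^ 2) (fun _ _ => sq_nonneg _) hχ
  simp only [T.norm_B ha ha1] at h1
  have hs := two_le_rs (F := F) (m := m)
  rw [rq_eq (m := m)] at h1
  refine (pow_le_pow_iff_left₀ (norm_nonneg _) (by linarith) two_ne_zero).1 ?_
  nlinarith

theorem norm_st_le {g : Cfsg.Sz F m} (hg : T.IsRep g) :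
    ‖(T.χS : Cfsg.Sz F m → ℂ) g‖ ≤ 1 := by
  rcases hg with ⟨b, hb, rfl⟩ | ⟨a, b, ha, rfl⟩ | ⟨l, hl, rfl⟩ | ⟨h, h1⟩ | ⟨h, h1⟩
  · rw [T.st, steinberg_unip (gT_mem_unip _ _) (gT_zero_ne_one hb), norm_zero]; norm_num
  · rw [T.st, steinberg_unip (gT_mem_unip _ _) (gT_ne_one_of_left ha b), norm_zero]; norm_num
  · rw [T.st, steinberg_gD hl, norm_one]
  · rw [T.st_A h h1, norm_neg, norm_one]
  · rw [T.st_B h h1, norm_neg, norm_one]

theorem norm_theta_le {g : Cfsg.Sz F m} (hg : T.IsRep g) {θ : IrrCharacter (Cfsg.Sz F m)}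
    (hθ : θ ∈ T.PS) : ‖(θ : Cfsg.Sz F m → ℂ) g‖ ≤ 2 := by
  rcases hg with ⟨b, hb, rfl⟩ | ⟨a, b, ha, rfl⟩ | ⟨l, hl, rfl⟩ | ⟨h, h1⟩ | ⟨h, h1⟩
  · rw [T.theta_u hθ (gT_mem_unip _ _) (gT_zero_ne_one hb), norm_one]; norm_num
  · rw [T.theta_u hθ (gT_mem_unip _ _) (gT_ne_one_of_left ha b), norm_one]; norm_num
  · exact T.theta_d hθ hl
  · rw [T.theta_semi hθ (T.hA.semireg h h1).1, norm_zero]; norm_num
  · rw [T.theta_semi hθ (T.hB.semireg h h1).1, norm_zero]; norm_num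

theorem norm_UV_le {g : Cfsg.Sz F m} (hg : T.IsRep g) :
    ‖(T.U : Cfsg.Sz F m → ℂ) g + (T.V : Cfsg.Sz F m → ℂ) g‖ ≤ 2 * rs m ∧
      (¬ IsInv g → ‖(T.U : Cfsg.Sz F m → ℂ) g + (T.V : Cfsg.Sz F m → ℂ) g‖ ≤ 2) := by
  have hs := two_le_rs (F := F) (m := m)
  suffices h : (IsInv g ∧
      ‖(T.U : Cfsg.Sz F m → ℂ) g + (T.V : Cfsg.Sz F m → ℂ) g‖ ≤ 2 * rs m) ∨
      ‖(T.U : Cfsg.Sz F m → ℂ) g + (T.V : Cfsg.Sz F m → ℂ) g‖ ≤ 2 by
    rcases h with ⟨h1, h2⟩ | h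
    · exact ⟨h2, fun h3 => absurd h1 h3⟩
    · exact ⟨by linarith, fun _ => h⟩
  rcases hg with ⟨b, hb, rfl⟩ | ⟨a, b, ha, rfl⟩ | ⟨l, hl, rfl⟩ | ⟨h, h1⟩ | ⟨h, h1⟩
  · left
    obtain ⟨h1, h2, -⟩ := T.val_invol hb
    refine ⟨⟨b, hb, rfl⟩, ?_⟩
    rw [h1, h2, show -(rs m : ℂ) + -(rs m : ℂ) = ((-(2 * rs m) : ℝ) : ℂ) by push_cast; ring,
      Complex.norm_real, Real.norm_eq_abs, abs_neg, abs_of_nonneg (by linarith)]
  · right
    rw [(T.val_four ha b).1, add_neg_cancel, norm_zero]; norm_num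
  · right
    rw [T.gD_zero T.U (Or.inl rfl) l hl, T.gD_zero T.V (Or.inr (Or.inl rfl)) l hl, add_zero,
      norm_zero]; norm_num
  · right
    rw [T.U_A g h h1, T.V_A g h h1]; norm_num
  · right
    rw [T.U_B g h h1, T.V_B g h h1]; norm_num

theorem norm_Y_le {g : Cfsg.Sz F m} (hg : T.IsRep g) {χ : IrrCharacter (Cfsg.Sz F m)}
    (hχ : χ ∈ T.YS) : ‖(χ : Cfsg.Sz F m → ℂ) g‖ ≤ 2 * rs m + 1 := by
  have hs := two_le_rs (F := F) (m := m)
  rcases hg with ⟨b, hb, rfl⟩ | ⟨a, b, ha, rfl⟩ | ⟨l, hl, rfl⟩ | ⟨h, h1⟩ | ⟨h, h1⟩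
  · rw [(T.val_invol hb).2.2.2 χ hχ, Complex.norm_real, Real.norm_eq_abs, abs_le]
    constructor <;> linarith
  · rw [(T.val_four ha b).2.2.2 χ hχ, norm_neg, norm_one]; linarith
  · rw [T.gD_zero χ (Or.inr (Or.inr (Or.inr hχ))) l hl, norm_zero]; linarith
  · rw [T.Y_A χ hχ g h h1, norm_zero]; linarith
  · exact T.sum_norm_B_le h h1 hχ

theorem norm_le_half (z : ℂ) : ‖z‖ ≤ (1 + ‖z‖ ^ 2) / 2 := by nlinarith [sq_nonneg (‖z‖ - 1)]

theorem sum_norm_X_le {g : Cfsg.Sz F m} (hg : T.IsRep g) (hi : ¬ IsInv g) :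
    ∑ χ ∈ T.XS, ‖(χ : Cfsg.Sz F m → ℂ) g‖ ≤
      ((rq F + 2 * rs m) / 4 + (rq F + 2 * rs m - 3)) / 2 := by
  have hs := two_le_rs (F := F) (m := m)
  have hq := rq_eq (F := F) (m := m)
  rcases hg with h0 | ⟨a, b, ha, rfl⟩ | ⟨l, hl, rfl⟩ | ⟨h, h1⟩ | ⟨h, h1⟩
  · exact absurd h0 hi
  · rw [Finset.sum_congr rfl (g := fun _ => (1 : ℝ)) (fun χ hχ => by
      rw [(T.val_four ha b).2.2.1 χ hχ, norm_neg, norm_one]), Finset.sum_const, nsmul_one,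
      T.cardXS_real]
    nlinarith
  · rw [Finset.sum_eq_zero fun χ hχ => by
      rw [T.gD_zero χ (Or.inr (Or.inr (Or.inl hχ))) l hl, norm_zero]]
    nlinarith
  · refine (Finset.sum_le_sum fun χ _ => norm_le_half _).trans ?_
    rw [← Finset.sum_div, Finset.sum_add_distrib, T.norm_A h h1, Finset.sum_const, nsmul_one,
      T.cardXS_real]
  · rw [Finset.sum_eq_zero fun χ hχ => by rw [T.X_B χ hχ g h h1, norm_zero]]
    nlinarith

theorem sum_norm_Y_le {g : Cfsg.Sz F m} (hg : T.IsRep g) (hi : ¬ IsInv g) :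
    ∑ χ ∈ T.YS, ‖(χ : Cfsg.Sz F m → ℂ) g‖ ≤
      ((rq F - 2 * rs m) / 4 + (rq F - 2 * rs m - 3)) / 2 := by
  have hs := two_le_rs (F := F) (m := m)
  have hq := rq_eq (F := F) (m := m)
  rcases hg with h0 | ⟨a, b, ha, rfl⟩ | ⟨l, hl, rfl⟩ | ⟨h, h1⟩ | ⟨h, h1⟩
  · exact absurd h0 hi
  · rw [Finset.sum_congr rfl (g := fun _ => (1 : ℝ)) (fun χ hχ => by
      rw [(T.val_four ha b).2.2.2 χ hχ, norm_neg, norm_one]), Finset.sum_const, nsmul_one,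
      T.cardYS_real]
    nlinarith
  · rw [Finset.sum_eq_zero fun χ hχ => by
      rw [T.gD_zero χ (Or.inr (Or.inr (Or.inr hχ))) l hl, norm_zero]]
    nlinarith
  · rw [Finset.sum_eq_zero fun χ hχ => by rw [T.Y_A χ hχ g h h1, norm_zero]]
    nlinarith
  · refine (Finset.sum_le_sum fun χ _ => norm_le_half _).trans ?_
    rw [← Finset.sum_div, Finset.sum_add_distrib, T.norm_B h h1, Finset.sum_const, nsmul_one,
      T.cardYS_real]

theorem st_one : (T.χS : Cfsg.Sz F m → ℂ) 1 = ((rq F ^ 2 : ℝ) : ℂ) := by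
  rw [T.st, steinberg_one]; push_cast; rfl

theorem ps_one {θ : IrrCharacter (Cfsg.Sz F m)} (hθ : θ ∈ T.PS) :
    (θ : Cfsg.Sz F m → ℂ) 1 = ((rq F ^ 2 + 1 : ℝ) : ℂ) := by
  obtain ⟨ν, h⟩ := T.ps θ hθ
  rw [h, theta_one]; push_cast; rfl

/-- The class product sum. -/
noncomputable def N (x g : Cfsg.Sz F m) : ℂ :=
  ∑ χ : IrrCharacter (Cfsg.Sz F m),
    (χ : Cfsg.Sz F m → ℂ) x * (χ : Cfsg.Sz F m → ℂ) x * conj ((χ : Cfsg.Sz F m → ℂ) g) /
      (χ : Cfsg.Sz F m → ℂ) 1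

theorem N_eq (x g : Cfsg.Sz F m) : N x g = ((1 : ℝ) : ℂ) +
    ((T.χS : Cfsg.Sz F m → ℂ) x * (T.χS : Cfsg.Sz F m → ℂ) x *
      conj ((T.χS : Cfsg.Sz F m → ℂ) g) / ((rq F ^ 2 : ℝ) : ℂ) +
    (∑ θ ∈ T.PS, (θ : Cfsg.Sz F m → ℂ) x * (θ : Cfsg.Sz F m → ℂ) x *
      conj ((θ : Cfsg.Sz F m → ℂ) g)) / ((rq F ^ 2 + 1 : ℝ) : ℂ) +
    ((T.U : Cfsg.Sz F m → ℂ) x * (T.U : Cfsg.Sz F m → ℂ) x * conj ((T.U : Cfsg.Sz F m → ℂ) g) +
      (T.V : Cfsg.Sz F m → ℂ) x * (T.V : Cfsg.Sz F m → ℂ) x *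
        conj ((T.V : Cfsg.Sz F m → ℂ) g)) / (((rq F - 1) * rs m : ℝ) : ℂ) +
    (∑ χ ∈ T.XS, (χ : Cfsg.Sz F m → ℂ) x * (χ : Cfsg.Sz F m → ℂ) x *
      conj ((χ : Cfsg.Sz F m → ℂ) g)) / (((rq F - 1) * (rq F - 2 * rs m + 1) : ℝ) : ℂ) +
    (∑ χ ∈ T.YS, (χ : Cfsg.Sz F m → ℂ) x * (χ : Cfsg.Sz F m → ℂ) x *
      conj ((χ : Cfsg.Sz F m → ℂ) g)) / (((rq F - 1) * (rq F + 2 * rs m + 1) : ℝ) : ℂ)) := by
  rw [N, T.decomp, T.one, T.st_one, T.U_one, T.V_one]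
  rw [Finset.sum_div, Finset.sum_div, Finset.sum_div,
    Finset.sum_congr rfl (s₁ := T.PS) fun θ hθ => by rw [T.ps_one hθ],
    Finset.sum_congr rfl (s₁ := T.XS) fun χ hχ => by rw [T.X_one χ hχ],
    Finset.sum_congr rfl (s₁ := T.YS) fun χ hχ => by rw [T.Y_one χ hχ]]
  rw [← T.cardA_real, ← T.cardB_real]
  simp only [map_one, mul_one, div_one]
  push_cast
  ring

include hS in
theorem two_le_rq : 8 ≤ rq F := by
  have := eight_le_card (F := F) (m := m)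
  exact_mod_cast this

theorem dU_pos : 0 < (rq F - 1) * rs m := by
  have := two_le_rq (F := F) (m := m)
  have := two_le_rs (F := F) (m := m)
  exact mul_pos (by linarith) (by linarith)

theorem dX_pos : 0 < (rq F - 1) * (rq F - 2 * rs m + 1) := by
  have := two_le_rq (F := F) (m := m)
  have := two_le_rs (F := F) (m := m)
  have := rq_eq (F := F) (m := m)
  exact mul_pos (by linarith) (by nlinarith)

theorem dY_pos : 0 < (rq F - 1) * (rq F + 2 * rs m + 1) := by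
  have := two_le_rq (F := F) (m := m)
  have := two_le_rs (F := F) (m := m)
  exact mul_pos (by linarith) (by linarith)

include hS in
theorem ineq_st : 1 / rq F ^ 2 ≤ 1 / 64 := by
  have := two_le_rq (F := F) (m := m)
  exact one_div_le_one_div_of_le (by norm_num) (by nlinarith)

include hS in
theorem ineq_ps : (rq F - 2) / (rq F ^ 2 + 1) ≤ 1 / 8 := by
  have := two_le_rq (F := F) (m := m)
  rw [div_le_iff₀ (by positivity)]
  nlinarith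

theorem ineq_uv : 2 / ((rq F - 1) * rs m) ≤ 1 / 7 := by
  have := two_le_rq (F := F) (m := m)
  have := two_le_rs (F := F) (m := m)
  rw [div_le_iff₀ (dU_pos (F := F) (m := m))]
  nlinarith

theorem ne_zero_split {l : Fˣ} (hl : l ≠ 1) {g : Cfsg.Sz F m} (hg : T.IsRep g) :
    N (gD l) g ≠ 0 := by
  rw [T.N_eq]
  apply ne_zero_of_norm_lt
  rw [T.gD_zero T.U (Or.inl rfl) l hl, T.gD_zero T.V (Or.inr (Or.inl rfl)) l hl,
    Finset.sum_eq_zero (s := T.XS) (fun χ hχ => by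
      rw [T.gD_zero χ (Or.inr (Or.inr (Or.inl hχ))) l hl, zero_mul, zero_mul]),
    Finset.sum_eq_zero (s := T.YS) (fun χ hχ => by
      rw [T.gD_zero χ (Or.inr (Or.inr (Or.inr hχ))) l hl, zero_mul, zero_mul])]
  simp only [zero_mul, zero_add, zero_div, add_zero]
  have hq := two_le_rq (F := F) (m := m)
  have h1 : ‖(T.χS : Cfsg.Sz F m → ℂ) (gD l) * (T.χS : Cfsg.Sz F m → ℂ) (gD l) *
      conj ((T.χS : Cfsg.Sz F m → ℂ) g)‖ ≤ 1 := by
    rw [T.st, steinberg_gD hl, one_mul, one_mul, Complex.norm_conj, ← T.st]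
    exact T.norm_st_le hg
  have h2 : ‖∑ θ ∈ T.PS, (θ : Cfsg.Sz F m → ℂ) (gD l) * (θ : Cfsg.Sz F m → ℂ) (gD l) *
      conj ((θ : Cfsg.Sz F m → ℂ) g)‖ ≤ (rq F - 2) * 2 * 2 := by
    refine norm_sum_mul_le T.PS _ _ (by norm_num) ?_ (fun θ hθ => T.norm_theta_le hg hθ)
    refine (Finset.sum_le_sum (g := fun _ => (4 : ℝ)) fun θ hθ => ?_).trans ?_
    · nlinarith [T.theta_d hθ hl, norm_nonneg ((θ : Cfsg.Sz F m → ℂ) (gD l))]
    · rw [Finset.sum_const, nsmul_eq_mul, T.cardPS_real]; linarith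
  refine lt_of_le_of_lt (norm_add_le _ _) ?_
  refine lt_of_le_of_lt (add_le_add (norm_div_real_le (by positivity) h1)
    (norm_div_real_le (by positivity) h2)) ?_
  have := ineq_st (F := F) (m := m)
  have := ineq_ps (F := F) (m := m)
  rw [show (rq F - 2) * 2 * 2 / (rq F ^ 2 + 1) = 4 * ((rq F - 2) / (rq F ^ 2 + 1)) by ring]
  linarith

theorem ne_zero_B {x : Cfsg.Sz F m} (hx : x ∈ T.B) (hx1 : x ≠ 1) {g : Cfsg.Sz F m}
    (hg : T.IsRep g) : N x g ≠ 0 := by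
  rw [T.N_eq]
  apply ne_zero_of_norm_lt
  rw [T.st_B hx hx1, T.U_B x hx hx1, T.V_B x hx hx1,
    Finset.sum_eq_zero (s := T.PS) (fun θ hθ => by
      rw [T.theta_semi hθ (T.hB.semireg hx hx1).1, zero_mul, zero_mul]),
    Finset.sum_eq_zero (s := T.XS) (fun χ hχ => by
      rw [T.X_B χ hχ x hx hx1, zero_mul, zero_mul])]
  simp only [zero_div, add_zero, neg_mul, one_mul, mul_neg, neg_neg]
  have hq := rq_eq (F := F) (m := m)
  have hs := two_le_rs (F := F) (m := m)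
  have h1 : ‖conj ((T.χS : Cfsg.Sz F m → ℂ) g)‖ ≤ 1 := by
    rw [Complex.norm_conj]; exact T.norm_st_le hg
  have h2 : ‖conj ((T.U : Cfsg.Sz F m → ℂ) g) + conj ((T.V : Cfsg.Sz F m → ℂ) g)‖ ≤ 2 * rs m := by
    rw [← map_add, Complex.norm_conj]; exact (T.norm_UV_le hg).1
  have h3 : ‖∑ χ ∈ T.YS, (χ : Cfsg.Sz F m → ℂ) x * (χ : Cfsg.Sz F m → ℂ) x *
      conj ((χ : Cfsg.Sz F m → ℂ) g)‖ ≤ (rq F - 2 * rs m - 3) * (2 * rs m + 1) :=
    norm_sum_mul_le T.YS _ _ (by linarith) (le_of_eq (T.norm_B hx hx1))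
      (fun χ hχ => T.norm_Y_le hg hχ)
  refine lt_of_le_of_lt (norm_add₃_le) ?_
  refine lt_of_le_of_lt (add_le_add (add_le_add
    (norm_div_real_le (by positivity) h1)
    (norm_div_real_le (dU_pos (F := F) (m := m)) h2))
    (norm_div_real_le (dY_pos (F := F) (m := m)) h3)) ?_
  have := ineq_st (F := F) (m := m)
  have e2 : 2 * rs m / ((rq F - 1) * rs m) ≤ 2 / 7 := by
    rw [mul_div_mul_right _ _ (by linarith : rs m ≠ 0), div_le_iff₀ (by nlinarith)]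
    nlinarith
  have e3 : (rq F - 2 * rs m - 3) * (2 * rs m + 1) /
      ((rq F - 1) * (rq F + 2 * rs m + 1)) ≤ 1 / 2 := by
    rw [div_le_iff₀ (dY_pos (F := F) (m := m)), hq]
    nlinarith [sq_nonneg (rs m - 2), mul_nonneg (sub_nonneg.2 hs) (sq_nonneg (rs m))]
  linarith

theorem ne_zero_four {a b : F} (ha : a ≠ 0) {g : Cfsg.Sz F m} (hg : T.IsRep g)
    (hi : ¬ IsInv g) : N (gT a b) g ≠ 0 := by
  rw [T.N_eq]
  apply ne_zero_of_norm_lt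
  have hp := gT_mem_unip (m := m) a b
  have hp1 := gT_ne_one_of_left (m := m) ha b
  obtain ⟨f1, f2, f3, f4⟩ := T.val_four ha b
  rw [T.st, steinberg_unip hp hp1, f1,
    Finset.sum_congr rfl (s₁ := T.PS) (fun θ hθ => by rw [T.theta_u hθ hp hp1, one_mul, one_mul]),
    Finset.sum_congr rfl (s₁ := T.XS) (fun χ hχ => by rw [f3 χ hχ, neg_mul, one_mul, neg_neg,
      one_mul]),
    Finset.sum_congr rfl (s₁ := T.YS) (fun χ hχ => by rw [f4 χ hχ, neg_mul, one_mul, neg_neg,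
      one_mul])]
  simp only [zero_mul, zero_div, zero_add, neg_mul_neg]
  rw [← mul_add, ← map_add]
  have hq := rq_eq (F := F) (m := m)
  have hs := two_le_rs (F := F) (m := m)
  have h1 : ‖∑ θ ∈ T.PS, conj ((θ : Cfsg.Sz F m → ℂ) g)‖ ≤ rq F - 2 := by
    refine (norm_sum_le _ _).trans ?_
    refine (Finset.sum_le_sum (g := fun _ => (2 : ℝ)) fun θ hθ => ?_).trans ?_
    · rw [Complex.norm_conj]; exact T.norm_theta_le hg hθ
    · rw [Finset.sum_const, nsmul_eq_mul, T.cardPS_real]; linarith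
  set u := (T.U : Cfsg.Sz F m → ℂ) (gT a b) with hu
  have h2 : ‖u * u * conj ((T.U : Cfsg.Sz F m → ℂ) g + (T.V : Cfsg.Sz F m → ℂ) g)‖ ≤
      rs m * rs m * 2 := by
    rw [norm_mul, norm_mul, Complex.norm_conj]
    exact mul_le_mul (mul_le_mul f2 f2 (norm_nonneg _) (by linarith)) ((T.norm_UV_le hg).2 hi)
      (norm_nonneg _) (by positivity)
  have h3 : ‖∑ χ ∈ T.XS, conj ((χ : Cfsg.Sz F m → ℂ) g)‖ ≤
      ((rq F + 2 * rs m) / 4 + (rq F + 2 * rs m - 3)) / 2 :=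
    (norm_sum_le _ _).trans (by simpa only [Complex.norm_conj] using T.sum_norm_X_le hg hi)
  have h4 : ‖∑ χ ∈ T.YS, conj ((χ : Cfsg.Sz F m → ℂ) g)‖ ≤
      ((rq F - 2 * rs m) / 4 + (rq F - 2 * rs m - 3)) / 2 :=
    (norm_sum_le _ _).trans (by simpa only [Complex.norm_conj] using T.sum_norm_Y_le hg hi)
  refine lt_of_le_of_lt ((norm_add_le _ _).trans (add_le_add (norm_add₃_le) le_rfl)) ?_
  refine lt_of_le_of_lt (add_le_add (add_le_add (add_le_add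
    (norm_div_real_le (by positivity) h1)
    (norm_div_real_le (dU_pos (F := F) (m := m)) h2))
    (norm_div_real_le (dX_pos (F := F) (m := m)) h3))
    (norm_div_real_le (dY_pos (F := F) (m := m)) h4)) ?_
  have := ineq_ps (F := F) (m := m)
  have e2 : rs m * rs m * 2 / ((rq F - 1) * rs m) ≤ 4 / 7 := by
    rw [div_le_iff₀ (dU_pos (F := F) (m := m)), hq]
    nlinarith [mul_nonneg (sub_nonneg.2 hs) (sq_nonneg (rs m))]
  have e3 : ((rq F + 2 * rs m) / 4 + (rq F + 2 * rs m - 3)) / 2 /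
      ((rq F - 1) * (rq F - 2 * rs m + 1)) ≤ 6 / 35 := by
    rw [div_le_iff₀ (dX_pos (F := F) (m := m)), hq]
    nlinarith [mul_nonneg (sub_nonneg.2 hs) (sq_nonneg (rs m)),
      mul_nonneg (sub_nonneg.2 hs) (sq_nonneg (rs m - 2)),
      mul_nonneg (mul_nonneg (sub_nonneg.2 hs) (sub_nonneg.2 hs)) (sq_nonneg (rs m))]
  have e4 : ((rq F - 2 * rs m) / 4 + (rq F - 2 * rs m - 3)) / 2 /
      ((rq F - 1) * (rq F + 2 * rs m + 1)) ≤ 1 / 20 := by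
    rw [div_le_iff₀ (dY_pos (F := F) (m := m)), hq]
    nlinarith [mul_nonneg (sub_nonneg.2 hs) (sq_nonneg (rs m)),
      mul_nonneg (sub_nonneg.2 hs) (sq_nonneg (rs m - 2))]
  linarith

theorem N_A {x : Cfsg.Sz F m} (hx : x ∈ T.A) (hx1 : x ≠ 1) (g : Cfsg.Sz F m) :
    N x g = ((1 : ℝ) : ℂ) + (conj ((T.χS : Cfsg.Sz F m → ℂ) g) / ((rq F ^ 2 : ℝ) : ℂ) +
      (conj ((T.U : Cfsg.Sz F m → ℂ) g) + conj ((T.V : Cfsg.Sz F m → ℂ) g)) /
        (((rq F - 1) * rs m : ℝ) : ℂ) +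
      (∑ χ ∈ T.XS, (χ : Cfsg.Sz F m → ℂ) x * (χ : Cfsg.Sz F m → ℂ) x *
        conj ((χ : Cfsg.Sz F m → ℂ) g)) / (((rq F - 1) * (rq F - 2 * rs m + 1) : ℝ) : ℂ)) := by
  rw [T.N_eq, T.st_A hx hx1, T.U_A x hx hx1, T.V_A x hx hx1,
    Finset.sum_eq_zero (s := T.PS) (fun θ hθ => by
      rw [T.theta_semi hθ (T.hA.semireg hx hx1).1, zero_mul, zero_mul]),
    Finset.sum_eq_zero (s := T.YS) (fun χ hχ => by
      rw [T.Y_A χ hχ x hx hx1, zero_mul, zero_mul])]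
  simp only [zero_div, add_zero, neg_mul, one_mul, mul_neg, neg_neg]

theorem ne_zero_A_invol {x : Cfsg.Sz F m} (hx : x ∈ T.A) (hx1 : x ≠ 1) {b : F} (hb : b ≠ 0) :
    N x (gT 0 b) ≠ 0 := by
  obtain ⟨t1, t2, t3, -⟩ := T.val_invol hb
  obtain ⟨r, hr, hsq⟩ := T.sq_sum_A hx hx1
  rw [T.N_A hx hx1, T.st, steinberg_unip (gT_mem_unip _ _) (gT_zero_ne_one hb), t1, t2,
    Finset.sum_congr rfl (s₁ := T.XS) (fun χ hχ => by rw [t3 χ hχ, Complex.conj_ofReal, ← sq]),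
    ← Finset.sum_mul, hsq, map_zero, zero_div, map_neg, Complex.conj_ofReal]
  intro h
  have h' : ((1 + ((-rs m + -rs m) / ((rq F - 1) * rs m) +
      r * (2 * rs m - 1) / ((rq F - 1) * (rq F - 2 * rs m + 1))) : ℝ) : ℂ) = 0 := by
    rw [← h]; push_cast; ring
  rw [Complex.ofReal_eq_zero] at h'
  have hq := rq_eq (F := F) (m := m)
  have hs := two_le_rs (F := F) (m := m)
  have e1 : -(2 / 7) ≤ (-rs m + -rs m) / ((rq F - 1) * rs m) := by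
    rw [le_div_iff₀ (dU_pos (F := F) (m := m)), hq]
    nlinarith [mul_nonneg (sub_nonneg.2 hs) (sq_nonneg (rs m))]
  have e2 : -(12 / 35) ≤ r * (2 * rs m - 1) / ((rq F - 1) * (rq F - 2 * rs m + 1)) := by
    rw [le_div_iff₀ (dX_pos (F := F) (m := m))]
    have h1 : -4 * (2 * rs m - 1) ≤ r * (2 * rs m - 1) :=
      mul_le_mul_of_nonneg_right hr (by linarith)
    rw [hq]
    nlinarith [mul_nonneg (sub_nonneg.2 hs) (sq_nonneg (rs m)),
      mul_nonneg (sub_nonneg.2 hs) (sq_nonneg (rs m - 2))]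
  linarith

theorem ineq_AA : (rq F + 2 * rs m - 3) * (2 * rs m) /
    ((rq F - 1) * (rq F - 2 * rs m + 1)) < 1 - 1 / rq F ^ 2 + 2 / ((rq F - 1) * rs m) := by
  have hs := two_le_rs (F := F) (m := m)
  have hpos : 0 ≤ 2 / ((rq F - 1) * rs m) := div_nonneg zero_le_two (dU_pos (F := F) (m := m)).le
  have hst := ineq_st (F := F) (m := m)
  rcases Nat.lt_or_ge (2 ^ m) 3 with h | h
  · have h2 : 2 ^ 1 ≤ 2 ^ m := Nat.pow_le_pow_right (by norm_num) hS.one_le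
    have h3 : rs m = 2 := by
      rw [rs, show 2 ^ m = 2 by omega]; norm_num
    rw [rq_eq (m := m), h3]
    norm_num
  · have h3 : (3 : ℝ) ≤ rs m := by rw [rs]; exact_mod_cast h
    have : (rq F + 2 * rs m - 3) * (2 * rs m) /
        ((rq F - 1) * (rq F - 2 * rs m + 1)) ≤ 3 / 4 := by
      rw [div_le_iff₀ (dX_pos (F := F) (m := m)), rq_eq (m := m)]
      nlinarith [mul_nonneg (sub_nonneg.2 h3) (sq_nonneg (rs m)),
        mul_nonneg (mul_nonneg (sub_nonneg.2 h3) (by linarith : (0:ℝ) ≤ rs m)) (sq_nonneg (rs m))]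
    linarith

theorem ne_zero_A_A {x g : Cfsg.Sz F m} (hx : x ∈ T.A) (hx1 : x ≠ 1) (hg : g ∈ T.A)
    (hg1 : g ≠ 1) : N x g ≠ 0 := by
  rw [T.N_A hx hx1, T.st_A hg hg1, T.U_A g hg hg1, T.V_A g hg hg1]
  simp only [map_neg, map_one]
  set z := (∑ χ ∈ T.XS, (χ : Cfsg.Sz F m → ℂ) x * (χ : Cfsg.Sz F m → ℂ) x *
    conj ((χ : Cfsg.Sz F m → ℂ) g)) / (((rq F - 1) * (rq F - 2 * rs m + 1) : ℝ) : ℂ) with hz
  rw [show ((1 : ℝ) : ℂ) + (-1 / ((rq F ^ 2 : ℝ) : ℂ) +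
      (1 + 1) / (((rq F - 1) * rs m : ℝ) : ℂ) + z) =
    ((1 - 1 / rq F ^ 2 + 2 / ((rq F - 1) * rs m) : ℝ) : ℂ) + z by push_cast; ring]
  refine ne_zero_of_norm_lt (lt_of_le_of_lt ?_ (ineq_AA (F := F) (m := m)))
  refine norm_div_real_le (dX_pos (F := F) (m := m)) ?_
  exact norm_sum_mul_le T.XS _ _ (by have := two_le_rs (F := F) (m := m); linarith)
    (le_of_eq (T.norm_A hx hx1)) (fun χ hχ => T.sum_norm_A_le hg hg1 hχ)

theorem ne_zero_A_other {x : Cfsg.Sz F m} (hx : x ∈ T.A) (hx1 : x ≠ 1) {g : Cfsg.Sz F m}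
    (hg : IsFour g ∨ IsSplit g ∨ (g ∈ T.B ∧ g ≠ 1)) : N x g ≠ 0 := by
  rw [T.N_A hx hx1]
  apply ne_zero_of_norm_lt
  have hrep : T.IsRep g := by
    rcases hg with h | h | h
    exacts [Or.inr (Or.inl h), Or.inr (Or.inr (Or.inl h)), Or.inr (Or.inr (Or.inr (Or.inr h)))]
  have hX : ∀ χ ∈ T.XS, ‖(χ : Cfsg.Sz F m → ℂ) g‖ ≤ 1 := by
    intro χ hχ
    rcases hg with ⟨a, b, ha, rfl⟩ | ⟨l, hl, rfl⟩ | ⟨h, h1⟩
    · rw [(T.val_four ha b).2.2.1 χ hχ, norm_neg, norm_one]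
    · rw [T.gD_zero χ (Or.inr (Or.inr (Or.inl hχ))) l hl, norm_zero]; norm_num
    · rw [T.X_B χ hχ g h h1, norm_zero]; norm_num
  have hUV : ‖(T.U : Cfsg.Sz F m → ℂ) g + (T.V : Cfsg.Sz F m → ℂ) g‖ ≤ 2 := by
    rcases hg with ⟨a, b, ha, rfl⟩ | ⟨l, hl, rfl⟩ | ⟨h, h1⟩
    · rw [(T.val_four ha b).1, add_neg_cancel, norm_zero]; norm_num
    · rw [T.gD_zero T.U (Or.inl rfl) l hl, T.gD_zero T.V (Or.inr (Or.inl rfl)) l hl, add_zero,
        norm_zero]; norm_num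
    · rw [T.U_B g h h1, T.V_B g h h1]; norm_num
  have hq := rq_eq (F := F) (m := m)
  have hs := two_le_rs (F := F) (m := m)
  refine lt_of_le_of_lt (norm_add₃_le) ?_
  refine lt_of_le_of_lt (add_le_add (add_le_add
    (norm_div_real_le (c := 1) (by positivity) (by rw [Complex.norm_conj]; exact T.norm_st_le hrep))
    (norm_div_real_le (c := 2) (dU_pos (F := F) (m := m))
      (by rw [← map_add, Complex.norm_conj]; exact hUV)))
    (norm_div_real_le (dX_pos (F := F) (m := m))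
      (norm_sum_mul_le T.XS _ _ zero_le_one (le_of_eq (T.norm_A hx hx1)) hX))) ?_
  have := ineq_st (F := F) (m := m)
  have := ineq_uv (F := F) (m := m)
  have e3 : (rq F + 2 * rs m - 3) * 1 / ((rq F - 1) * (rq F - 2 * rs m + 1)) ≤ 9 / 35 := by
    rw [div_le_iff₀ (dX_pos (F := F) (m := m)), hq]
    nlinarith [mul_nonneg (sub_nonneg.2 hs) (sq_nonneg (rs m)),
      mul_nonneg (sub_nonneg.2 hs) (sq_nonneg (rs m - 2))]
  linarith

end Table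

theorem exists_two_conj (x g : Cfsg.Sz F m) (hx : 2 < orderOf x) (hg : g ≠ 1) :
    ∃ u v : Cfsg.Sz F m, g = (u * x * u⁻¹) * (v * x * v⁻¹) := by
  obtain ⟨T⟩ := exists_table (F := F) (m := m)
  have hx1 : x ≠ 1 := fun h => by rw [h, orderOf_one] at hx; omega
  obtain ⟨k, hk⟩ := T.exists_rep hx1
  obtain ⟨l, hl⟩ := T.exists_rep hg
  obtain ⟨x', hx'⟩ : ∃ x', k⁻¹ * x * k = x' := ⟨_, rfl⟩
  obtain ⟨g', hg'⟩ : ∃ g', l⁻¹ * g * l = g' := ⟨_, rfl⟩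
  rw [hx'] at hk
  rw [hg'] at hl
  have hxe : x = k * x' * k⁻¹ := by rw [← hx']; group
  have hge : g = l * g' * l⁻¹ := by rw [← hg']; group
  suffices h : ∃ u v, g' = (u * x' * u⁻¹) * (v * x' * v⁻¹) by
    obtain ⟨u, v, h⟩ := h
    refine ⟨l * u * k⁻¹, l * v * k⁻¹, ?_⟩
    rw [hge, h, hxe]; group
  have hord : orderOf x' = orderOf x := by
    rw [← hx', show k⁻¹ * x * k = (MulAut.conj k⁻¹).toMonoidHom x by simp [MulAut.conj_apply],
      orderOf_injective _ (MulAut.conj k⁻¹).injective]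
  rcases hk with ⟨b, hb, hk⟩ | ⟨a, b, ha, hk⟩ | ⟨j, hj, hk⟩ | hk | hk
  · rw [hk, orderOf_gT_zero hb] at hord; omega
  · subst hk
    by_cases hi : Table.IsInv g'
    · obtain ⟨c, hc, rfl⟩ := hi
      obtain ⟨j, hj⟩ := exists_conj_invol (m := m) (b := th F m a * a) (b' := c)
        (mul_ne_zero ((map_ne_zero _).2 ha) ha) hc
      refine ⟨j, j, ?_⟩
      rw [← hj, ← gT_sq a b, sq]; group
    · exact exists_conj_mul_conj _ _ (T.ne_zero_four ha hl hi)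
  · subst hk
    exact exists_conj_mul_conj _ _ (T.ne_zero_split hj hl)
  · rcases hl with ⟨c, hc, rfl⟩ | h | h | h | h
    · exact exists_conj_mul_conj _ _ (T.ne_zero_A_invol hk.1 hk.2 hc)
    · exact exists_conj_mul_conj _ _ (T.ne_zero_A_other hk.1 hk.2 (Or.inl h))
    · exact exists_conj_mul_conj _ _ (T.ne_zero_A_other hk.1 hk.2 (Or.inr (Or.inl h)))
    · exact exists_conj_mul_conj _ _ (T.ne_zero_A_A hk.1 hk.2 h.1 h.2)
    · exact exists_conj_mul_conj _ _ (T.ne_zero_A_other hk.1 hk.2 (Or.inr (Or.inr h)))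
  · exact exists_conj_mul_conj _ _ (T.ne_zero_B hk.1 hk.2 hl)

end Cfsg.Agent.SzChar
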