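import Cfsg.Agent.SzChar.Values

/-!
# The character table of the Suzuki groups
-/

set_option autoImplicit false
set_option linter.unusedSectionVars false
set_option linter.style.haveILetI false

namespace Cfsg.Agent.SzChar

open Cfsg Cfsg.Agent.Suzuki MulAction
open Cfsg.Agent.Char (irr_charDegree_spec)
open scoped ComplexConjugate

variable {F : Type*} [Field F] [Fintype F] {m : ℕ} [hS : SuzukiField F m]

variable (F m) in
/-- The part of the character table of `Sz(q)` needed for class products. -/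
structure Table where
  A : Subgroup (Cfsg.Sz F m)
  B : Subgroup (Cfsg.Sz F m)
  hA : IsTorus A
  hB : IsTorus B
  cover : ∀ g, Semireg g → g ∈ conjCover A ∨ g ∈ conjCover B
  cardA : Nat.card A = Fintype.card F + 2 * 2 ^ m + 1
  cardB : Nat.card B + 2 * 2 ^ m = Fintype.card F + 1
  χ1 : IrrCharacter (Cfsg.Sz F m)
  χS : IrrCharacter (Cfsg.Sz F m)
  U : IrrCharacter (Cfsg.Sz F m)
  V : IrrCharacter (Cfsg.Sz F m)
  PS : Finset (IrrCharacter (Cfsg.Sz F m))
  XS : Finset (IrrCharacter (Cfsg.Sz F m))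
  YS : Finset (IrrCharacter (Cfsg.Sz F m))
  decomp : ∀ f : IrrCharacter (Cfsg.Sz F m) → ℂ, ∑ χ, f χ =
    f χ1 + f χS + ∑ θ ∈ PS, f θ + (f U + f V + ∑ χ ∈ XS, f χ + ∑ χ ∈ YS, f χ)
  one : (χ1 : Cfsg.Sz F m → ℂ) = fun _ => 1
  st : (χS : Cfsg.Sz F m → ℂ) = steinberg F m
  ps : ∀ θ ∈ PS, ∃ ν : Fˣ →* ℂˣ, (θ : Cfsg.Sz F m → ℂ) = theta ν
  cardPS : 2 * PS.card + 2 = Fintype.card F
  cardXS : 4 * XS.card + 1 = Nat.card A
  cardYS : 4 * YS.card + 1 = Nat.card B
  U_one : (U : Cfsg.Sz F m → ℂ) 1 = ((Fintype.card F : ℂ) - 1) * (2 ^ m : ℕ)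
  V_one : (V : Cfsg.Sz F m → ℂ) 1 = ((Fintype.card F : ℂ) - 1) * (2 ^ m : ℕ)
  X_one : ∀ χ ∈ XS, (χ : Cfsg.Sz F m → ℂ) 1 = ((Fintype.card F : ℂ) - 1) * (Nat.card B : ℂ)
  Y_one : ∀ χ ∈ YS, (χ : Cfsg.Sz F m → ℂ) 1 = ((Fintype.card F : ℂ) - 1) * (Nat.card A : ℂ)
  gD_zero : ∀ χ : IrrCharacter (Cfsg.Sz F m), χ = U ∨ χ = V ∨ χ ∈ XS ∨ χ ∈ YS →
    ∀ l : Fˣ, l ≠ 1 → (χ : Cfsg.Sz F m → ℂ) (gD l) = 0
  U_A : ∀ a ∈ A, a ≠ 1 → (U : Cfsg.Sz F m → ℂ) a = 1
  V_A : ∀ a ∈ A, a ≠ 1 → (V : Cfsg.Sz F m → ℂ) a = 1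
  U_B : ∀ a ∈ B, a ≠ 1 → (U : Cfsg.Sz F m → ℂ) a = -1
  V_B : ∀ a ∈ B, a ≠ 1 → (V : Cfsg.Sz F m → ℂ) a = -1
  X_B : ∀ χ ∈ XS, ∀ a ∈ B, a ≠ 1 → (χ : Cfsg.Sz F m → ℂ) a = 0
  Y_A : ∀ χ ∈ YS, ∀ a ∈ A, a ≠ 1 → (χ : Cfsg.Sz F m → ℂ) a = 0
  X_unip : ∀ χ ∈ XS, ∀ p ∈ unip F m, p ≠ 1 → (χ : Cfsg.Sz F m → ℂ) p =
    -1 - ((U : Cfsg.Sz F m → ℂ) p + (V : Cfsg.Sz F m → ℂ) p)
  Y_unip : ∀ χ ∈ YS, ∀ p ∈ unip F m, p ≠ 1 → (χ : Cfsg.Sz F m → ℂ) p =
    -1 + ((U : Cfsg.Sz F m → ℂ) p + (V : Cfsg.Sz F m → ℂ) p)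

set_option maxHeartbeats 1000000 in
theorem exists_table : Nonempty (Table F m) := by
  classical
  letI := Fintype.ofFinite (Cfsg.Sz F m)
  haveI : Finite (Fˣ →* ℂˣ) := Char.monoidHom_complex_finite
  letI := Fintype.ofFinite (Fˣ →* ℂˣ)
  set q : ℕ := Fintype.card F with hqdef
  have hq : q = 2 ^ (2 * m + 1) := hS.card
  have h8 : 8 ≤ q := eight_le_card (F := F) (m := m)
  have hpm : 2 ≤ 2 ^ m := by
    calc 2 = 2 ^ 1 := rfl
      _ ≤ 2 ^ m := Nat.pow_le_pow_right (by norm_num) hS.one_le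
  obtain ⟨s, hs⟩ : ∃ s, 2 ^ m = s := ⟨_, rfl⟩
  rw [hs] at hpm
  have hqs : q = 2 * (s * s) := by rw [hq, ← hs, pow_succ, two_mul, pow_add]; ring
  have hrs : 2 ^ (m + 1) = 2 * s := by rw [← hs, pow_succ]; ring
  obtain ⟨A, B, hA, hB, hcov, hcA, hcB, hNA, hNB⟩ := exists_tori (F := F) (m := m)
  rw [← hq, hrs] at hcA hcB
  have hss : 2 * s ≤ s * s := Nat.mul_le_mul_right s hpm
  have hsq : 2 * s ≤ q := by omega
  -- the known characters
  obtain ⟨χ1, hχ1⟩ : ∃ χ : IrrCharacter (Cfsg.Sz F m), (χ : Cfsg.Sz F m → ℂ) = fun _ => 1 :=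
    ⟨⟨_, Char.isIrrCharacter_const_one⟩, rfl⟩
  obtain ⟨χS, hχS⟩ : ∃ χ : IrrCharacter (Cfsg.Sz F m), (χ : Cfsg.Sz F m → ℂ) = steinberg F m :=
    ⟨⟨_, steinberg_irr⟩, rfl⟩
  let ps : (Fˣ →* ℂˣ) → IrrCharacter (Cfsg.Sz F m) := fun ν =>
    if hν : ν ≠ 1 then ⟨theta ν, theta_irr hν⟩ else χ1
  have hps : ∀ ν : Fˣ →* ℂˣ, ν ≠ 1 → (ps ν : Cfsg.Sz F m → ℂ) = theta ν := fun ν hν => by
    simp only [ps, dif_pos hν]
  set N1 : Finset (Fˣ →* ℂˣ) := Finset.univ.erase 1 with hN1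
  set PS := N1.image ps with hPS
  have hfib : ∀ θ ∈ PS, (N1.filter fun ν => ps ν = θ).card = 2 := by
    intro θ hθ
    obtain ⟨ν, hν, rfl⟩ := Finset.mem_image.1 hθ
    have hν1 : ν ≠ 1 := (Finset.mem_erase.1 hν).1
    have hi : ν⁻¹ ≠ 1 := fun h => hν1 (MonoidHom.ext fun x =>
      inv_eq_one.1 (DFunLike.congr_fun h x))
    have hsame : ν⁻¹ ≠ ν := fun h => sq_ne_one (m := m) hν1 (MonoidHom.ext fun x =>
      (congrArg (· * ν x) (DFunLike.congr_fun h x).symm).trans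
        (show (ν x)⁻¹ * ν x = 1 from inv_mul_cancel (ν x)))
    rw [show (N1.filter fun μ => ps μ = ps ν) = {ν⁻¹, ν} from ?_, Finset.card_pair hsame]
    ext μ
    simp only [Finset.mem_filter, hN1, Finset.mem_erase, Finset.mem_univ, and_true,
      Finset.mem_insert, Finset.mem_singleton]
    constructor
    · rintro ⟨hμ, h⟩
      have h2 : theta (m := m) μ = theta ν := by rw [← hps μ hμ, ← hps ν hν1, h]
      have h3 := classInner_theta (m := m) μ ν
      rw [h2, Char.classInner_irr_self (theta_irr hν1)] at h3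
      by_cases e1 : μ = ν
      · exact Or.inr e1
      · rw [if_neg e1, zero_add] at h3
        by_cases e2 : μ * ν = 1
        · exact Or.inl (MonoidHom.ext fun x => eq_inv_of_mul_eq_one_left (DFunLike.congr_fun e2 x))
        · rw [if_neg e2] at h3; exact absurd h3 one_ne_zero
    · rintro (rfl | rfl)
      · refine ⟨hi, Subtype.ext ?_⟩
        rw [hps _ hi, hps _ hν1, theta_inv hν1]
      · exact ⟨hν1, rfl⟩
  have hPScard : 2 * PS.card = q - 2 := by
    have h := Finset.card_eq_sum_card_fiberwise (f := ps) (s := N1) (t := PS)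
      fun x hx => Finset.mem_image_of_mem _ hx
    rw [Finset.sum_congr rfl hfib, Finset.sum_const, smul_eq_mul, hN1,
      Finset.card_erase_of_mem (Finset.mem_univ _), Finset.card_univ,
      ← Nat.card_eq_fintype_card,
      CommGroup.card_monoidHom_of_hasEnoughRootsOfUnity Fˣ ℂ, Nat.card_eq_fintype_card,
      Fintype.card_units] at h
    rw [mul_comm, ← h, hqdef]; omega
  have hPSdeg : ∀ θ ∈ PS, charDegree (θ : Cfsg.Sz F m → ℂ) = q ^ 2 + 1 := by
    intro θ hθ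
    obtain ⟨ν, hν, rfl⟩ := Finset.mem_image.1 hθ
    rw [hps ν (Finset.mem_erase.1 hν).1]
    refine Char.charDegree_of_eq ?_
    rw [theta_one]; push_cast; rfl
  have hdeg1 : charDegree (χ1 : Cfsg.Sz F m → ℂ) = 1 := by
    rw [hχ1]; exact Char.charDegree_of_eq (by simp)
  have hdegS : charDegree (χS : Cfsg.Sz F m → ℂ) = q ^ 2 := by
    rw [hχS]; exact Char.charDegree_of_eq (by rw [steinberg_one]; push_cast; rfl)
  have hq2 : 8 ≤ q ^ 2 := le_trans h8 (Nat.le_self_pow two_ne_zero q)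
  have h1S : χ1 ≠ χS := fun h => by rw [h, hdegS] at hdeg1; omega
  have h1P : χ1 ∉ PS := fun h => by
    have := hPSdeg _ h
    rw [hdeg1] at this; omega
  have hSP : χS ∉ PS := fun h => by
    have := hPSdeg _ h
    rw [hdegS] at this; omega
  set L : Finset (IrrCharacter (Cfsg.Sz F m)) := insert χ1 (insert χS PS) with hL
  set C := {χ : IrrCharacter (Cfsg.Sz F m) // χ ∉ L} with hCdef
  have hsplit : ∀ (f : IrrCharacter (Cfsg.Sz F m) → ℤ),
      ∑ c : C, f c =
        (∑ χ, f χ) - f χ1 - f χS - ∑ θ ∈ PS, f θ := by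
    intro f
    show ∑ c : {χ : IrrCharacter (Cfsg.Sz F m) // χ ∉ L}, f c = _
    rw [← Finset.sum_subtype (p := fun χ => χ ∉ L) (Finset.univ.filter fun χ => χ ∉ L)
      (fun x => by simp) f]
    have h := Finset.sum_filter_add_sum_filter_not (Finset.univ : Finset (IrrCharacter (Cfsg.Sz F m)))
      (fun χ => χ ∉ L) f
    rw [show (Finset.univ.filter fun χ => ¬ χ ∉ L) = L by ext; simp, hL,
      Finset.sum_insert (by simp [h1S, h1P]), Finset.sum_insert hSP] at h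
    linarith
  let e : C → ℕ := fun c => charDegree ((c : IrrCharacter (Cfsg.Sz F m)) : Cfsg.Sz F m → ℂ) / (q - 1)
  have horth : ∀ (c : C) (ν : Fˣ →* ℂˣ),
      classInner ((c : IrrCharacter (Cfsg.Sz F m)) : Cfsg.Sz F m → ℂ) (theta (m := m) ν) = 0 := by
    intro c ν
    obtain ⟨hc1, hcS, hcP⟩ : (c : IrrCharacter (Cfsg.Sz F m)) ≠ χ1 ∧
        (c : IrrCharacter (Cfsg.Sz F m)) ≠ χS ∧ (c : IrrCharacter (Cfsg.Sz F m)) ∉ PS := by
      simpa [hL, not_or] using c.2
    by_cases hν : ν = 1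
    · subst hν
      have h : theta (m := m) (1 : Fˣ →* ℂˣ) = steinberg F m + fun _ => 1 := by
        rw [steinberg, sub_add_cancel]
      rw [h, Char.classInner_add_right, ← hχS, ← hχ1,
        Char.classInner_irr_ne c.1.2 χS.2 fun h => hcS (Subtype.ext h),
        Char.classInner_irr_ne c.1.2 χ1.2 fun h => hc1 (Subtype.ext h), add_zero]
    · rw [← hps ν hν]
      refine Char.classInner_irr_ne c.1.2 (ps ν).2 fun h => hcP ?_
      rw [show (c : IrrCharacter (Cfsg.Sz F m)) = ps ν from Subtype.ext h]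
      exact Finset.mem_image_of_mem _ (Finset.mem_erase.2 ⟨hν, Finset.mem_univ _⟩)
  have hedeg : ∀ c : C, charDegree ((c : IrrCharacter (Cfsg.Sz F m)) : Cfsg.Sz F m → ℂ) =
      (q - 1) * e c := fun c =>
    (Nat.mul_div_cancel' (card_sub_one_dvd c.1.2 (horth c))).symm
  have hes : ∀ c : C, s ≤ e c := fun c => by
    have h1 := le_charDegree c.1.2 (fun h => c.2 (by
      rw [show (c : IrrCharacter (Cfsg.Sz F m)) = χ1 from Subtype.ext (h.trans hχ1.symm)]
      exact Finset.mem_insert_self _ _))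
    rw [hedeg, hs] at h1
    exact Nat.le_of_mul_le_mul_left h1 (by omega)
  -- the two families
  obtain ⟨RA, hRAc, hRA1, hRA2, hRA3⟩ := exists_reps hA hNA
  obtain ⟨RB, hRBc, hRB1, hRB2, hRB3⟩ := exists_reps hB hNB
  rw [hcA] at hRAc
  rw [hcB] at hRBc
  have hcop : (Nat.card A).Coprime (Nat.card B) := by
    refine Nat.coprime_of_dvd fun p hp h1 h2 => ?_
    have h3 : p ∣ Nat.card A - Nat.card B := Nat.dvd_sub h1 h2
    rw [hcA, hcB, show q + 2 * s + 1 - (q - 2 * s + 1) = 2 ^ (m + 2) by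
      rw [pow_succ, hrs]; omega] at h3
    have h4 : p = 2 := (Nat.prime_dvd_prime_iff_eq hp Nat.prime_two).1 (hp.dvd_of_dvd_pow h3)
    subst h4
    rw [hcA] at h1
    omega
  let v : (A →* ℂˣ) → C → ℤ := fun l c => coeff A l c
  let w : (B →* ℂˣ) → C → ℤ := fun l c => coeff B l c
  have hPS0A : ∀ l : A →* ℂˣ, l ≠ 1 → ∀ θ ∈ PS, coeff A l θ = 0 := fun l hl θ hθ => by
    obtain ⟨ν, hν, rfl⟩ := Finset.mem_image.1 hθ
    exact coeff_theta hA l (hps ν (Finset.mem_erase.1 hν).1) hl (Finset.mem_erase.1 hν).1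
  have hPS0B : ∀ l : B →* ℂˣ, l ≠ 1 → ∀ θ ∈ PS, coeff B l θ = 0 := fun l hl θ hθ => by
    obtain ⟨ν, hν, rfl⟩ := Finset.mem_image.1 hθ
    exact coeff_theta hB l (hps ν (Finset.mem_erase.1 hν).1) hl (Finset.mem_erase.1 hν).1
  have haPS : ∀ θ ∈ PS, aMult θ = 1 := fun θ hθ => by
    obtain ⟨ν, hν, rfl⟩ := Finset.mem_image.1 hθ
    refine aMult_eq_of_classInner _ ?_
    rw [hps ν (Finset.mem_erase.1 hν).1, Nat.cast_one]
    exact aMult_theta ν
  have haS : aMult χS = 1 := aMult_eq_of_classInner _ (by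
    rw [hχS, Nat.cast_one]; exact aMult_steinberg)
  have ha1 : aMult χ1 = 0 := aMult_one hχ1
  have hqm : ((q - 1 : ℕ) : ℤ) ≠ 0 := by omega
  have hve : ∀ (T : Subgroup (Cfsg.Sz F m)) (hT : IsTorus T) (l : T →* ℂˣ), l ≠ 1 →
      (∀ θ ∈ PS, coeff T l θ = 0) →
      ∑ c : C, coeff T l c * (e c : ℤ) = -((q : ℤ) + 1) := by
    intro T hT l hl h0
    refine mul_left_cancel₀ hqm ?_
    rw [Finset.mul_sum]
    have h := hsplit fun χ => coeff T l χ * (charDegree (χ : Cfsg.Sz F m → ℂ) : ℤ)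
    rw [sum_coeff_mul_degree, coeff_one l hl hχ1, coeff_steinberg hT l hl hχS, hdeg1, hdegS,
      Finset.sum_eq_zero (s := PS) (fun θ hθ => by rw [h0 θ hθ, zero_mul])] at h
    rw [show ∑ c : C, ((q - 1 : ℕ) : ℤ) * (coeff T l c * (e c : ℤ)) =
      ∑ c : C, coeff T l c *
        (charDegree ((c : IrrCharacter (Cfsg.Sz F m)) : Cfsg.Sz F m → ℂ) : ℤ) from
      Finset.sum_congr rfl fun c _ => by rw [hedeg c]; push_cast; ring]
    rw [h, Nat.cast_sub (show 1 ≤ q by omega)]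
    push_cast
    ring
  have hva : ∀ (T : Subgroup (Cfsg.Sz F m)) (hT : IsTorus T) (l : T →* ℂˣ), l ≠ 1 →
      (∀ θ ∈ PS, coeff T l θ = 0) → ∑ c : C, coeff T l c * (aMult c.1 : ℤ) = -1 := by
    intro T hT l hl h0
    have h := hsplit fun χ => coeff T l χ * (aMult χ : ℤ)
    rw [sum_coeff_mul_aMult hT, coeff_one l hl hχ1, coeff_steinberg hT l hl hχS, ha1, haS,
      Finset.sum_eq_zero (s := PS) (fun θ hθ => by rw [h0 θ hθ, zero_mul])] at h
    rw [h]; norm_num
  have hmul : ∀ (T T' : Subgroup (Cfsg.Sz F m)) (hT : IsTorus T) (hT' : IsTorus T') (l : T →* ℂˣ)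
      (l' : T' →* ℂˣ), l ≠ 1 → l' ≠ 1 → (∀ θ ∈ PS, coeff T l θ = 0) →
      ∑ c : C, coeff T l c * coeff T' l' c =
        (∑ χ, coeff T l χ * coeff T' l' χ) - 2 := by
    intro T T' hT hT' l l' hl hl' h0
    have h := hsplit fun χ => coeff T l χ * coeff T' l' χ
    rw [coeff_one l hl hχ1, coeff_one l' hl' hχ1, coeff_steinberg hT l hl hχS,
      coeff_steinberg hT' l' hl' hχS,
      Finset.sum_eq_zero (s := PS) (fun θ hθ => by rw [h0 θ hθ, zero_mul])] at h
    rw [h]; ring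
  have hbound : ∑ c : C, aMult c.1 ^ 2 = RA.card + RB.card := by
    have h := hsplit fun χ => ((aMult χ ^ 2 : ℕ) : ℤ)
    rw [← Nat.cast_sum, ← Nat.cast_sum, sum_aMult_sq, ha1, haS,
      Finset.sum_congr rfl (g := fun _ => (1 : ℤ)) (fun θ hθ => by rw [haPS θ hθ]; norm_num),
      Finset.sum_const, nsmul_one] at h
    push_cast at h
    have h2 : ((∑ c : C, aMult c.1 ^ 2 : ℕ) : ℤ) = (RA.card + RB.card : ℕ) := by
      push_cast
      omega
    exact_mod_cast h2
  have hk3 : 3 ≤ RA.card := by omega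
  have hcfg : IsConfig RA RB v w (fun c : C => aMult c.1) e ((q : ℤ) + 1) :=
    { triv := fun l hl => by
        show ∑ c : C, v l c ^ 2 = 3
        simp only [sq, v]
        rw [hmul A A hA hA l l (hRA1 l hl) (hRA1 l hl) (hPS0A l (hRA1 l hl)),
          sum_coeff_sq hA hNA (hRA1 l hl)]
        norm_num
      triw := fun l hl => by
        show ∑ c : C, w l c ^ 2 = 3
        simp only [sq, w]
        rw [hmul B B hB hB l l (hRB1 l hl) (hRB1 l hl) (hPS0B l (hRB1 l hl)),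
          sum_coeff_sq hB hNB (hRB1 l hl)]
        norm_num
      vv := fun l hl l' hl' hne => by
        simp only [v]
        rw [hmul A A hA hA l l' (hRA1 l hl) (hRA1 l' hl') (hPS0A l (hRA1 l hl)),
          sum_coeff_mul hA hNA (hRA1 l hl) (hRA1 l' hl') (hRA2 l hl l' hl' hne)]
        norm_num
      ww := fun l hl l' hl' hne => by
        simp only [w]
        rw [hmul B B hB hB l l' (hRB1 l hl) (hRB1 l' hl') (hPS0B l (hRB1 l hl)),
          sum_coeff_mul hB hNB (hRB1 l hl) (hRB1 l' hl') (hRB2 l hl l' hl' hne)]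
        norm_num
      vw := fun l hl l' hl' => by
        simp only [v, w]
        rw [hmul A B hA hB l l' (hRA1 l hl) (hRB1 l' hl') (hPS0A l (hRA1 l hl)),
          sum_coeff_cross hcop]
        norm_num
      va := fun l hl => hva A hA l (hRA1 l hl) (hPS0A l (hRA1 l hl))
      wa := fun l hl => hva B hB l (hRB1 l hl) (hPS0B l (hRB1 l hl))
      ve := fun l hl => hve A hA l (hRA1 l hl) (hPS0A l (hRA1 l hl))
      we := fun l hl => hve B hB l (hRB1 l hl) (hPS0B l (hRB1 l hl))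
      three := hk3
      ne := Finset.card_pos.1 (by omega)
      le_three := by omega
      le := by omega
      bound := le_of_eq hbound }
  obtain ⟨U, V, X, Y, hUV, hX, hY, hXinj, hYinj, hXY, hsum⟩ := hcfg.structure_thm
  -- divisibility
  have hAdvd := hA.dvd_orbit
  have hBdvd := hB.dvd_orbit
  have hXdvd : ∀ i ∈ RA, Nat.card B ∣ e (X i) := by
    intro i hi
    have h0 : ∀ j ∈ RB, coeff B j (X i).1 = 0 := fun j hj => by
      by_contra hne
      have : X i ∈ supp (w j) := mem_supp.2 hne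
      rw [(hY j hj).2.2] at this
      simp only [Finset.mem_insert, Finset.mem_singleton] at this
      rcases this with h | h | h
      exacts [(hX i hi).1 h, (hX i hi).2.1 h, hXY i hi j hj h]
    have h := card_dvd_of_coeff_eq_zero hB (X i).1 fun l hl => by
      obtain ⟨j, hj, x, rfl⟩ := hRB3 l hl
      rw [coeff_cjA]; exact h0 j hj
    rw [hedeg] at h
    exact ((coprime_sub_one (m := m) _ hBdvd).dvd_of_dvd_mul_left h)
  have hYdvd : ∀ j ∈ RB, Nat.card A ∣ e (Y j) := by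
    intro j hj
    have h0 : ∀ i ∈ RA, coeff A i (Y j).1 = 0 := fun i hi => by
      by_contra hne
      have : Y j ∈ supp (v i) := mem_supp.2 hne
      rw [(hX i hi).2.2] at this
      simp only [Finset.mem_insert, Finset.mem_singleton] at this
      rcases this with h | h | h
      exacts [(hY j hj).1 h, (hY j hj).2.1 h, hXY i hi j hj h.symm]
    have h := card_dvd_of_coeff_eq_zero hA (Y j).1 fun l hl => by
      obtain ⟨i, hi, x, rfl⟩ := hRA3 l hl
      rw [coeff_cjA]; exact h0 i hi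
    rw [hedeg] at h
    exact ((coprime_sub_one (m := m) _ hAdvd).dvd_of_dvd_mul_left h)
  have hval : ∀ i ∈ RA, ∀ j ∈ RB, e (X i) = Nat.card B ∧ e (Y j) = Nat.card A := by
    intro i hi j hj
    obtain ⟨a, ha⟩ := hXdvd i hi
    obtain ⟨b, hb⟩ := hYdvd j hj
    have h1 : e (X i) + e (Y j) = Nat.card B + Nat.card A := by
      have := hsum i hi j hj
      rw [hcA, hcB]
      omega
    have h2 := hes (X i)
    have h3 := hes (Y j)
    have ha0 : a ≠ 0 := fun h => by rw [h, mul_zero] at ha; omega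
    have hb0 : b ≠ 0 := fun h => by rw [h, mul_zero] at hb; omega
    have h4 : Nat.card B ≤ e (X i) := ha ▸ Nat.le_mul_of_pos_right _ (Nat.pos_of_ne_zero ha0)
    have h5 : Nat.card A ≤ e (Y j) := hb ▸ Nat.le_mul_of_pos_right _ (Nat.pos_of_ne_zero hb0)
    omega
  obtain ⟨i₀, hi₀⟩ := Finset.card_pos.1 (show 0 < RA.card by omega)
  obtain ⟨j₀, hj₀⟩ := Finset.card_pos.1 (show 0 < RB.card by omega)
  -- the sum of squares
  have hbudget : ∑ c ∈ ((Finset.univ : Finset C) \ (RA.image X ∪ RB.image Y)), (e c : ℤ) ^ 2 =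
      2 * (s : ℤ) ^ 2 := by
    have hdisj : Disjoint (RA.image X) (RB.image Y) := by
      rw [Finset.disjoint_left]
      intro x hx hx'
      obtain ⟨i, hi, rfl⟩ := Finset.mem_image.1 hx
      obtain ⟨j, hj, hji⟩ := Finset.mem_image.1 hx'
      exact hXY i hi j hj hji.symm
    have h := hsplit fun χ => (charDegree (χ : Cfsg.Sz F m → ℂ) : ℤ) ^ 2
    rw [hdeg1, hdegS,
      Finset.sum_congr (s₁ := PS) rfl (g := fun _ => (((q ^ 2 + 1 : ℕ) : ℤ)) ^ 2)
        (fun θ hθ => by rw [hPSdeg θ hθ]), Finset.sum_const, nsmul_eq_mul] at h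
    have htot : ∑ χ : IrrCharacter (Cfsg.Sz F m), (charDegree (χ : Cfsg.Sz F m → ℂ) : ℤ) ^ 2 =
        (Nat.card (Cfsg.Sz F m) : ℤ) := by
      have h1 := Char.sum_irr_degree_sq (G := Cfsg.Sz F m)
      have h2 : ((∑ χ : IrrCharacter (Cfsg.Sz F m),
          (charDegree (χ : Cfsg.Sz F m → ℂ) : ℤ) ^ 2 : ℤ) : ℂ) = (Nat.card (Cfsg.Sz F m) : ℂ) := by
        rw [← h1, Int.cast_sum]
        refine Finset.sum_congr rfl fun χ _ => ?_
        rw [(irr_charDegree_spec χ.2).2]; push_cast; rfl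
      exact_mod_cast h2
    rw [htot, card_sz_borel, card_borel, ← hqdef] at h
    have hlhs : ∑ c : C, (charDegree ((c : IrrCharacter (Cfsg.Sz F m)) : Cfsg.Sz F m → ℂ) : ℤ) ^ 2 =
        ((q - 1 : ℕ) : ℤ) ^ 2 * ((RA.card : ℤ) * (Nat.card B : ℤ) ^ 2 +
          (RB.card : ℤ) * (Nat.card A : ℤ) ^ 2 +
          ∑ c ∈ ((Finset.univ : Finset C) \ (RA.image X ∪ RB.image Y)), (e c : ℤ) ^ 2) := by
      rw [← Finset.sum_sdiff (Finset.subset_univ (RA.image X ∪ RB.image Y)),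
        Finset.sum_union hdisj, Finset.sum_image (fun i hi j hj h => hXinj i hi j hj h),
        Finset.sum_image (fun i hi j hj h => hYinj i hi j hj h)]
      simp only [hedeg]
      rw [Finset.sum_congr rfl (s₁ := RA) (g := fun _ => ((((q - 1) * Nat.card B : ℕ)) : ℤ) ^ 2)
          (fun i hi => by rw [(hval i hi j₀ hj₀).1]),
        Finset.sum_congr rfl (s₁ := RB) (g := fun _ => ((((q - 1) * Nat.card A : ℕ)) : ℤ) ^ 2)
          (fun j hj => by rw [(hval i₀ hi₀ j hj).2]),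
        Finset.sum_const, Finset.sum_const, nsmul_eq_mul, nsmul_eq_mul, mul_add, Finset.mul_sum]
      push_cast
      simp only [mul_pow]
      ring
    rw [hlhs, hcA, hcB] at h
    have eA : 4 * (RA.card : ℤ) = (q : ℤ) + 2 * s := by omega
    have eB : 4 * (RB.card : ℤ) = (q : ℤ) - 2 * s := by omega
    have eP : 2 * (PS.card : ℤ) = (q : ℤ) - 2 := by omega
    have hcast : ((q - 2 * s + 1 : ℕ) : ℤ) = (q : ℤ) - 2 * s + 1 := by omega
    rw [hcast] at h
    push_cast [Nat.cast_sub (show 1 ≤ q by omega)] at h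
    have hq' : (q : ℤ) = 2 * (s : ℤ) ^ 2 := by rw [hqs]; push_cast; ring
    have hne : ((q : ℤ) - 1) ^ 2 * 4 ≠ 0 := by
      have : (q : ℤ) - 1 ≠ 0 := by omega
      positivity
    generalize ∑ c ∈ ((Finset.univ : Finset C) \ (RA.image X ∪ RB.image Y)), (e c : ℤ) ^ 2 = S
      at h ⊢
    apply mul_left_cancel₀ hne
    generalize (q : ℤ) = Q at h eA eB eP hq' ⊢
    subst hq'
    generalize (s : ℤ) = T at h eA eB eP ⊢
    linear_combination 4 * h - (2 * T ^ 2 - 1) ^ 2 * (2 * T ^ 2 - 2 * T + 1) ^ 2 * eA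
      - (2 * T ^ 2 - 1) ^ 2 * (2 * T ^ 2 + 2 * T + 1) ^ 2 * eB
      - 2 * ((2 * T ^ 2) ^ 2 + 1) ^ 2 * eP
  have hU : U ∈ (Finset.univ : Finset C) \ (RA.image X ∪ RB.image Y) := by
    simp only [Finset.mem_sdiff, Finset.mem_univ, Finset.mem_union, Finset.mem_image, true_and]
    rintro (⟨i, hi, h⟩ | ⟨j, hj, h⟩)
    exacts [(hX i hi).1 h, (hY j hj).1 h]
  have hV : V ∈ (Finset.univ : Finset C) \ (RA.image X ∪ RB.image Y) := by
    simp only [Finset.mem_sdiff, Finset.mem_univ, Finset.mem_union, Finset.mem_image, true_and]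
    rintro (⟨i, hi, h⟩ | ⟨j, hj, h⟩)
    exacts [(hX i hi).2.1 h, (hY j hj).2.1 h]
  set rest := (Finset.univ : Finset C) \ (RA.image X ∪ RB.image Y) with hrest
  have hsq_le : ∀ c : C, (s : ℤ) ^ 2 ≤ (e c : ℤ) ^ 2 := fun c =>
    pow_le_pow_left₀ (Int.natCast_nonneg s) (by exact_mod_cast hes c) 2
  have hUVeq : rest = {U, V} ∧ e U = s := by
    have hsub : ({U, V} : Finset C) ⊆ rest := fun x hx => by
      rcases Finset.mem_insert.1 hx with rfl | hx
      · exact hU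
      · rw [Finset.mem_singleton.1 hx]; exact hV
    have h1 : ∑ c ∈ rest, ((e c : ℤ) ^ 2 - (s : ℤ) ^ 2) =
        2 * (s : ℤ) ^ 2 - (rest.card : ℤ) * (s : ℤ) ^ 2 := by
      rw [Finset.sum_sub_distrib, hbudget, Finset.sum_const, nsmul_eq_mul]
    have h2 : 2 ≤ rest.card := by
      have := Finset.card_le_card hsub
      rwa [Finset.card_pair hUV] at this
    have h3 : (0 : ℤ) < (s : ℤ) ^ 2 := by positivity
    have h4 : 0 ≤ ∑ c ∈ rest, ((e c : ℤ) ^ 2 - (s : ℤ) ^ 2) :=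
      Finset.sum_nonneg fun c _ => sub_nonneg.2 (hsq_le c)
    have h5 : rest.card = 2 := by
      have : (rest.card : ℤ) ≤ 2 := by nlinarith
      omega
    refine ⟨(Finset.eq_of_subset_of_card_le hsub (by rw [h5, Finset.card_pair hUV])).symm, ?_⟩
    rw [h5] at h1
    have h6 := (Finset.sum_eq_zero_iff_of_nonneg fun c _ => sub_nonneg.2 (hsq_le c)).1
      (by rw [h1]; norm_num) U hU
    have h7 : (e U : ℤ) ^ 2 = (s : ℤ) ^ 2 := sub_eq_zero.1 h6
    have h8 : e U ^ 2 = s ^ 2 := by exact_mod_cast h7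
    exact Nat.pow_left_injective two_ne_zero h8
  have hVs : e V = s := by
    have h := hbudget
    rw [hUVeq.1, Finset.sum_pair hUV, hUVeq.2] at h
    have h7 : (e V : ℤ) ^ 2 = (s : ℤ) ^ 2 := by linarith
    have h8 : e V ^ 2 = s ^ 2 := by exact_mod_cast h7
    exact Nat.pow_left_injective two_ne_zero h8
  -- signs of the coefficients
  have hone : ∀ (f : C → ℤ), IsTriple f → ∀ c ∈ supp f, f c = 1 ∨ f c = -1 := fun f hf c hc =>
    hf.sq_eq_one hc
  have hsA : ∀ i ∈ RA, v i U = -1 ∧ v i V = -1 ∧ v i (X i) = -1 := by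
    intro i hi
    obtain ⟨n1, n2, hsupp⟩ := hX i hi
    have h := hcfg.ve i hi
    rw [sum_of_supp (fun c => (e c : ℤ)) hUV n1.symm n2.symm hsupp] at h
    rw [hUVeq.2, hVs, (hval i hi j₀ hj₀).1] at h
    have hu := hone _ (hcfg.triv i hi) U (by rw [hsupp]; simp)
    have hv := hone _ (hcfg.triv i hi) V (by rw [hsupp]; simp)
    have hx := hone _ (hcfg.triv i hi) (X i) (by rw [hsupp]; simp)
    rcases hu with hu | hu <;> rcases hv with hv | hv <;> rcases hx with hx | hx <;>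
      simp only [hu, hv, hx] at h ⊢ <;> (try simp) <;> omega
  have hsB : ∀ j ∈ RB, w j U = 1 ∧ w j V = 1 ∧ w j (Y j) = -1 := by
    intro j hj
    obtain ⟨n1, n2, hsupp⟩ := hY j hj
    have h := hcfg.we j hj
    rw [sum_of_supp (fun c => (e c : ℤ)) hUV n1.symm n2.symm hsupp] at h
    rw [hUVeq.2, hVs, (hval i₀ hi₀ j hj).2] at h
    have hu := hone _ (hcfg.triw j hj) U (by rw [hsupp]; simp)
    have hv := hone _ (hcfg.triw j hj) V (by rw [hsupp]; simp)
    have hx := hone _ (hcfg.triw j hj) (Y j) (by rw [hsupp]; simp)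
    rcases hu with hu | hu <;> rcases hv with hv | hv <;> rcases hx with hx | hx <;>
      simp only [hu, hv, hx] at h ⊢ <;> (try simp) <;> omega
  have hallA : ∀ (c : C) (k : ℤ), (∀ i ∈ RA, v i c = k) →
      ∀ l : A →* ℂˣ, l ≠ 1 → coeff A l c.1 = k := by
    intro c k hk l hl
    obtain ⟨i, hi, x, rfl⟩ := hRA3 l hl
    rw [coeff_cjA]; exact hk i hi
  have hallB : ∀ (c : C) (k : ℤ), (∀ j ∈ RB, w j c = k) →
      ∀ l : B →* ℂˣ, l ≠ 1 → coeff B l c.1 = k := by
    intro c k hk l hl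
    obtain ⟨i, hi, x, rfl⟩ := hRB3 l hl
    rw [coeff_cjA]; exact hk i hi
  have hwX : ∀ i ∈ RA, ∀ j ∈ RB, w j (X i) = 0 := fun i hi j hj => notMem_supp.1 fun hm => by
    rw [(hY j hj).2.2] at hm
    simp only [Finset.mem_insert, Finset.mem_singleton] at hm
    rcases hm with h | h | h
    exacts [(hX i hi).1 h, (hX i hi).2.1 h, hXY i hi j hj h]
  have hvY : ∀ i ∈ RA, ∀ j ∈ RB, v i (Y j) = 0 := fun i hi j hj => notMem_supp.1 fun hm => by
    rw [(hX i hi).2.2] at hm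
    simp only [Finset.mem_insert, Finset.mem_singleton] at hm
    rcases hm with h | h | h
    exacts [(hY j hj).1 h, (hY j hj).2.1 h, hXY i hi j hj h.symm]
  have hdisj : Disjoint (RA.image X) (RB.image Y) := by
    rw [Finset.disjoint_left]
    intro x hx hx'
    obtain ⟨i, hi, rfl⟩ := Finset.mem_image.1 hx
    obtain ⟨j, hj, hji⟩ := Finset.mem_image.1 hx'
    exact hXY i hi j hj hji.symm
  have hdec : ∀ f : IrrCharacter (Cfsg.Sz F m) → ℂ, ∑ χ, f χ =
      f χ1 + f χS + ∑ θ ∈ PS, f θ + (f U.1 + f V.1 + ∑ c ∈ RA.image X, f c.1 +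
        ∑ c ∈ RB.image Y, f c.1) := by
    intro f
    have hLs : ∑ χ ∈ L, f χ = f χ1 + f χS + ∑ θ ∈ PS, f θ := by
      rw [hL, Finset.sum_insert (by simp [h1S, h1P]), Finset.sum_insert hSP, add_assoc]
    rw [← Finset.sum_filter_add_sum_filter_not (Finset.univ : Finset (IrrCharacter (Cfsg.Sz F m)))
      (fun χ => χ ∉ L) f,
      show (Finset.univ.filter fun χ => ¬ χ ∉ L) = L by ext; simp, hLs,
      Finset.sum_subtype (p := fun χ => χ ∉ L) (Finset.univ.filter fun χ => χ ∉ L)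
      (fun x => by simp) f]
    show (∑ c : C, f c.1) + _ = _
    rw [← Finset.sum_sdiff (Finset.subset_univ (RA.image X ∪ RB.image Y)), ← hrest, hUVeq.1,
      Finset.sum_union hdisj, Finset.sum_pair hUV]
    ring
  have hdegc : ∀ (c : C) (n : ℕ), e c = n →
      ((c : IrrCharacter (Cfsg.Sz F m)) : Cfsg.Sz F m → ℂ) 1 = ((q : ℂ) - 1) * (n : ℂ) := by
    intro c n hn
    rw [(irr_charDegree_spec c.1.2).2, hedeg, hn, Nat.cast_mul, Nat.cast_sub (by omega),
      Nat.cast_one]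
  have hexp : ∀ (T : Subgroup (Cfsg.Sz F m)) (l : T →* ℂˣ) (p : Cfsg.Sz F m),
      torInd T l p = ∑ χ : IrrCharacter (Cfsg.Sz F m),
        (coeff T l χ : ℂ) * (χ : Cfsg.Sz F m → ℂ) p := by
    intro T l p
    have h := congrFun (Char.eq_sum_classInner_smul (torInd_isClassFunction T l)) p
    rw [Finset.sum_apply] at h
    rw [h]
    refine Finset.sum_congr rfl fun χ _ => ?_
    rw [Pi.smul_apply, smul_eq_mul, classInner_torInd_irr]
  have hSp : ∀ p ∈ unip F m, p ≠ 1 → (χS : Cfsg.Sz F m → ℂ) p = 0 := fun p hp hp1 => by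
    rw [hχS, steinberg_unip hp hp1]
  have hXu : ∀ i ∈ RA, ∀ p ∈ unip F m, p ≠ 1 → ((X i).1 : Cfsg.Sz F m → ℂ) p =
      -1 - ((U.1 : Cfsg.Sz F m → ℂ) p + (V.1 : Cfsg.Sz F m → ℂ) p) := by
    intro i hi p hp hp1
    have h := hexp A i p
    rw [torInd_unip hA i ⟨p, hp⟩, hdec, coeff_one i (hRA1 i hi) hχ1,
      coeff_steinberg hA i (hRA1 i hi) hχS, hSp p hp hp1, hχ1,
      Finset.sum_eq_zero (s := PS) (fun θ hθ => by
        rw [hPS0A i (hRA1 i hi) θ hθ, Int.cast_zero, zero_mul]),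
      Finset.sum_eq_zero (s := RB.image Y) (fun c hc => by
        obtain ⟨j, hj, rfl⟩ := Finset.mem_image.1 hc
        rw [show coeff A i (Y j).1 = 0 from hvY i hi j hj, Int.cast_zero, zero_mul]),
      Finset.sum_eq_single (X i) (fun c hc hne => by
        obtain ⟨k, hk, rfl⟩ := Finset.mem_image.1 hc
        rw [show coeff A i (X k).1 = 0 from (notMem_supp (f := v i)).1 (by
          rw [(hX i hi).2.2]
          simp only [Finset.mem_insert, Finset.mem_singleton, not_or]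
          exact ⟨(hX k hk).1, (hX k hk).2.1, hne⟩), Int.cast_zero, zero_mul])
        (fun hnot => absurd (Finset.mem_image_of_mem _ hi) hnot),
      show coeff A i U.1 = -1 from (hsA i hi).1, show coeff A i V.1 = -1 from (hsA i hi).2.1,
      show coeff A i (X i).1 = -1 from (hsA i hi).2.2] at h
    push_cast at h
    linear_combination h
  have hYu : ∀ j ∈ RB, ∀ p ∈ unip F m, p ≠ 1 → ((Y j).1 : Cfsg.Sz F m → ℂ) p =
      -1 + ((U.1 : Cfsg.Sz F m → ℂ) p + (V.1 : Cfsg.Sz F m → ℂ) p) := by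
    intro i hi p hp hp1
    have h := hexp B i p
    rw [torInd_unip hB i ⟨p, hp⟩, hdec, coeff_one i (hRB1 i hi) hχ1,
      coeff_steinberg hB i (hRB1 i hi) hχS, hSp p hp hp1, hχ1,
      Finset.sum_eq_zero (s := PS) (fun θ hθ => by
        rw [hPS0B i (hRB1 i hi) θ hθ, Int.cast_zero, zero_mul]),
      Finset.sum_eq_zero (s := RA.image X) (fun c hc => by
        obtain ⟨j, hj, rfl⟩ := Finset.mem_image.1 hc
        rw [show coeff B i (X j).1 = 0 from hwX j hj i hi, Int.cast_zero, zero_mul]),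
      Finset.sum_eq_single (Y i) (fun c hc hne => by
        obtain ⟨k, hk, rfl⟩ := Finset.mem_image.1 hc
        rw [show coeff B i (Y k).1 = 0 from (notMem_supp (f := w i)).1 (by
          rw [(hY i hi).2.2]
          simp only [Finset.mem_insert, Finset.mem_singleton, not_or]
          exact ⟨(hY k hk).1, (hY k hk).2.1, hne⟩), Int.cast_zero, zero_mul])
        (fun hnot => absurd (Finset.mem_image_of_mem _ hi) hnot),
      show coeff B i U.1 = 1 from (hsB i hi).1, show coeff B i V.1 = 1 from (hsB i hi).2.1,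
      show coeff B i (Y i).1 = -1 from (hsB i hi).2.2] at h
    push_cast at h
    linear_combination h
  have hinjX : Set.InjOn X RA := fun i hi j hj h => hXinj i hi j hj h
  have hinjY : Set.InjOn Y RB := fun i hi j hj h => hYinj i hi j hj h
  have memX : ∀ χ ∈ (RA.image X).image Subtype.val, ∃ i ∈ RA, χ = (X i).1 := by
    intro χ hχ
    simp only [Finset.mem_image] at hχ
    obtain ⟨c, ⟨i, hi, rfl⟩, rfl⟩ := hχ
    exact ⟨i, hi, rfl⟩
  have memY : ∀ χ ∈ (RB.image Y).image Subtype.val, ∃ i ∈ RB, χ = (Y i).1 := by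
    intro χ hχ
    simp only [Finset.mem_image] at hχ
    obtain ⟨c, ⟨i, hi, rfl⟩, rfl⟩ := hχ
    exact ⟨i, hi, rfl⟩
  have hUA := fun (a : Cfsg.Sz F m) (ha : a ∈ A) (ha1 : a ≠ 1) =>
    apply_torus_const hA U.1 (hallA U (-1) fun i hi => (hsA i hi).1) (a := ⟨a, ha⟩)
      fun h => ha1 (congrArg Subtype.val h)
  have hVA := fun (a : Cfsg.Sz F m) (ha : a ∈ A) (ha1 : a ≠ 1) =>
    apply_torus_const hA V.1 (hallA V (-1) fun i hi => (hsA i hi).2.1) (a := ⟨a, ha⟩)
      fun h => ha1 (congrArg Subtype.val h)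
  have hUB := fun (a : Cfsg.Sz F m) (ha : a ∈ B) (ha1 : a ≠ 1) =>
    apply_torus_const hB U.1 (hallB U 1 fun i hi => (hsB i hi).1) (a := ⟨a, ha⟩)
      fun h => ha1 (congrArg Subtype.val h)
  have hVB := fun (a : Cfsg.Sz F m) (ha : a ∈ B) (ha1 : a ≠ 1) =>
    apply_torus_const hB V.1 (hallB V 1 fun i hi => (hsB i hi).2.1) (a := ⟨a, ha⟩)
      fun h => ha1 (congrArg Subtype.val h)
  refine ⟨{
    A := A, B := B, hA := hA, hB := hB, cover := hcov
    cardA := by rw [hcA, hs]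
    cardB := by rw [hcB, hs]; omega
    χ1 := χ1, χS := χS, U := U.1, V := V.1, PS := PS
    XS := (RA.image X).image Subtype.val
    YS := (RB.image Y).image Subtype.val
    decomp := fun f => by
      rw [hdec, Finset.sum_image fun _ _ _ _ h => Subtype.ext h,
        Finset.sum_image fun _ _ _ _ h => Subtype.ext h, Finset.sum_image hinjX,
        Finset.sum_image hinjY]
    one := hχ1, st := hχS
    ps := fun θ hθ => by
      obtain ⟨ν, hν, rfl⟩ := Finset.mem_image.1 hθ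
      exact ⟨ν, hps ν (Finset.mem_erase.1 hν).1⟩
    cardPS := by omega
    cardXS := by
      rw [Finset.card_image_of_injective _ Subtype.val_injective, Finset.card_image_of_injOn hinjX]
      omega
    cardYS := by
      rw [Finset.card_image_of_injective _ Subtype.val_injective, Finset.card_image_of_injOn hinjY]
      omega
    U_one := by rw [hs]; exact hdegc U s hUVeq.2
    V_one := by rw [hs]; exact hdegc V s hVs
    X_one := fun χ hχ => by
      obtain ⟨i, hi, rfl⟩ := memX χ hχ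
      exact hdegc _ _ (hval i hi j₀ hj₀).1
    Y_one := fun χ hχ => by
      obtain ⟨i, hi, rfl⟩ := memY χ hχ
      exact hdegc _ _ (hval i₀ hi₀ i hi).2
    gD_zero := fun χ hχ => by
      obtain ⟨c, rfl⟩ : ∃ c : C, χ = c.1 := by
        rcases hχ with h | h | h | h
        · exact ⟨U, h⟩
        · exact ⟨V, h⟩
        · obtain ⟨i, _, hi⟩ := memX χ h; exact ⟨X i, hi⟩
        · obtain ⟨i, _, hi⟩ := memY χ h; exact ⟨Y i, hi⟩
      exact apply_gD_eq_zero c.1.2 (horth c)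
    U_A := fun a ha ha1 => by simpa using hUA a ha ha1
    V_A := fun a ha ha1 => by simpa using hVA a ha ha1
    U_B := fun a ha ha1 => by simpa using hUB a ha ha1
    V_B := fun a ha ha1 => by simpa using hVB a ha ha1
    X_B := fun χ hχ a ha ha1 => by
      obtain ⟨i, hi, rfl⟩ := memX χ hχ
      simpa using apply_torus_const hB (X i).1 (hallB (X i) 0 fun j hj => hwX i hi j hj)
        (a := ⟨a, ha⟩) fun h => ha1 (congrArg Subtype.val h)
    Y_A := fun χ hχ a ha ha1 => by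
      obtain ⟨i, hi, rfl⟩ := memY χ hχ
      simpa using apply_torus_const hA (Y i).1 (hallA (Y i) 0 fun j hj => hvY j hj i hi)
        (a := ⟨a, ha⟩) fun h => ha1 (congrArg Subtype.val h)
    X_unip := fun χ hχ p hp hp1 => by
      obtain ⟨i, hi, rfl⟩ := memX χ hχ
      exact hXu i hi p hp hp1
    Y_unip := fun χ hχ p hp hp1 => by
      obtain ⟨i, hi, rfl⟩ := memY χ hχ
      exact hYu i hi p hp hp1 }⟩

end Cfsg.Agent.SzChar
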