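import Cfsg.Agent.SzChar.Degrees

/-!
# Character values of the Suzuki groups away from the identity
-/

set_option autoImplicit false
set_option linter.unusedSectionVars false
set_option linter.style.haveILetI false

namespace Cfsg.Agent.SzChar

open Cfsg Cfsg.Agent.Suzuki MulAction
open Cfsg.Agent.Char (irr_charDegree_spec)
open scoped ComplexConjugate

variable {F : Type*} [Field F] [Fintype F] {m : ℕ} [hS : SuzukiField F m]

/-- A character orthogonal to the induced linear ones vanishes on the torus. -/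
theorem apply_gD_eq_zero {χ : Cfsg.Sz F m → ℂ} (hχ : IsIrrCharacter (Cfsg.Sz F m) χ)
    (h : ∀ ν : Fˣ →* ℂˣ, letI := Fintype.ofFinite (Cfsg.Sz F m)
      classInner χ (theta (m := m) ν) = 0) :
    ∀ l : Fˣ, l ≠ 1 → χ (gD l) = 0 := by
  classical
  letI := Fintype.ofFinite (Cfsg.Sz F m)
  letI := Fintype.ofFinite (borel F m)
  haveI : Finite (Fˣ →* ℂˣ) := Char.monoidHom_complex_finite
  letI := Fintype.ofFinite (Fˣ →* ℂˣ)
  have hcl := Char.irr_isClassFunction hχ
  let e : (F × F) × Fˣ → borel F m := fun x =>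
    ⟨gT x.1.1 x.1.2 * gD x.2, gT_mul_gD_smul_oInf _ _ _⟩
  have he : Function.Bijective e := by
    refine ⟨fun x y h => ?_, fun g => ?_⟩
    · obtain ⟨h1, h2, h3⟩ := gT_mul_gD_inj (congrArg Subtype.val h)
      exact Prod.ext (Prod.ext h1 h2) h3
    · obtain ⟨a, b, l, h⟩ := exists_gT_gD_of_fix (mem_stabilizer_iff.1 g.2)
      exact ⟨((a, b), l), Subtype.ext h.symm⟩
  set S : Fˣ → ℂ := fun l => ∑ ab : F × F, χ (gT ab.1 ab.2 * gD l) with hS'
  have hν : ∀ ν : Fˣ →* ℂˣ, ∑ l : Fˣ, S l * (ν l⁻¹ : ℂ) = 0 := by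
    intro ν
    have h0 := h ν
    rw [theta, CharInd.classInner_indFun_right _ _ hcl, classInner, mul_eq_zero] at h0
    have h1 := h0.resolve_left (inv_ne_zero (Nat.cast_ne_zero.2 Nat.card_pos.ne'))
    rw [← (Equiv.ofBijective e he).sum_comp, Fintype.sum_prod_type_right] at h1
    rw [← h1]
    refine Finset.sum_congr rfl fun l _ => ?_
    rw [hS', Finset.sum_mul]
    refine Finset.sum_congr rfl fun ab _ => ?_
    show _ = χ (gT ab.1 ab.2 * gD l) * conj ((ν (borelProj F m (e (ab, l))) : ℂ))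
    rw [borelProj_eq (g := e (ab, l)) rfl, conj_unitHom]
  have hS0 : ∀ t : Fˣ, S t = 0 := by
    intro t
    have h1 : ∑ ν : Fˣ →* ℂˣ, (ν t : ℂ) * ∑ l : Fˣ, S l * (ν l⁻¹ : ℂ) = 0 :=
      Finset.sum_eq_zero fun ν _ => by rw [hν ν, mul_zero]
    simp only [Finset.mul_sum] at h1
    rw [Finset.sum_comm] at h1
    have h2 : ∀ l : Fˣ, ∑ ν : Fˣ →* ℂˣ, (ν t : ℂ) * (S l * (ν l⁻¹ : ℂ)) =
        if l = t then (Fintype.card (Fˣ →* ℂˣ) : ℂ) * S l else 0 := by
      intro l
      have h3 : ∀ ν : Fˣ →* ℂˣ, (ν t : ℂ) * (S l * (ν l⁻¹ : ℂ)) = S l * (ν (t * l⁻¹) : ℂ) :=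
        fun ν => by rw [map_mul ν t, Units.val_mul]; ring
      rw [Finset.sum_congr rfl fun ν _ => h3 ν, ← Finset.mul_sum, sum_dual]
      simp only [mul_inv_eq_one, eq_comm (a := t)]
      split_ifs <;> ring
    rw [Finset.sum_congr rfl fun l _ => h2 l, Finset.sum_ite_eq', if_pos (Finset.mem_univ _),
      mul_eq_zero] at h1
    exact h1.resolve_left (Nat.cast_ne_zero.2 Fintype.card_ne_zero)
  have htor : ∀ t : Fˣ, t ≠ 1 → χ (gD t) = 0 := by
    intro t ht
    have h1 : ∀ a b : F, χ (gT a b * gD t) = χ (gD t) := by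
      let f : F × F → F × F := fun cd =>
        ((Equiv.ofBijective e he).symm
          (⟨gT cd.1 cd.2, gT_smul_oInf _ _⟩ * ⟨gD t, gD_smul_oInf t⟩ *
            ⟨gT cd.1 cd.2, gT_smul_oInf _ _⟩⁻¹)).1
      have hf : ∀ cd, (gT cd.1 cd.2 * gD t * (gT cd.1 cd.2)⁻¹ : Cfsg.Sz F m) =
          gT (f cd).1 (f cd).2 * gD t := by
        intro cd
        set x := (Equiv.ofBijective e he).symm
          (⟨gT cd.1 cd.2, gT_smul_oInf _ _⟩ * ⟨gD t, gD_smul_oInf t⟩ *
            ⟨gT cd.1 cd.2, gT_smul_oInf _ _⟩⁻¹) with hx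
        have h2 : e x = _ := (Equiv.ofBijective e he).apply_symm_apply _
        have h2' : (gT x.1.1 x.1.2 * gD x.2 : Cfsg.Sz F m) =
            gT cd.1 cd.2 * gD t * (gT cd.1 cd.2)⁻¹ := congrArg Subtype.val h2
        have h4 : x.2 = t := by
          have h5 : borelProj F m (e x) = x.2 := borelProj_eq rfl
          rw [h2, map_mul, map_mul, map_inv, mul_inv_cancel_comm,
            borelProj_eq (a := 0) (b := 0) (l := t) (by simp [gT_zero])] at h5
          exact h5.symm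
        rw [h4] at h2'
        exact h2'.symm
      have hinj : Function.Injective f := by
        intro x y hxy
        have h2 : (gT x.1 x.2 * gD t * (gT x.1 x.2)⁻¹ : Cfsg.Sz F m) =
            gT y.1 y.2 * gD t * (gT y.1 y.2)⁻¹ := by rw [hf x, hf y, hxy]
        have h3 : gD t * ((gT x.1 x.2)⁻¹ * gT y.1 y.2) =
            ((gT x.1 x.2)⁻¹ * gT y.1 y.2 : Cfsg.Sz F m) * gD t := by
          have := congrArg (fun g => (gT x.1 x.2)⁻¹ * g * gT y.1 y.2) h2
          simp only [mul_assoc, inv_mul_cancel_left, inv_mul_cancel, mul_one] at this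
          rw [this, mul_assoc]
        obtain ⟨c, d, hcd⟩ : ((gT x.1 x.2)⁻¹ * gT y.1 y.2 : Cfsg.Sz F m) ∈ unip F m :=
          mul_mem (inv_mem (gT_mem_unip _ _)) (gT_mem_unip _ _)
        rw [hcd] at h3
        have h4 : (gD t : Cfsg.Sz F m) • gT c d • oPt F m 0 0 = gT c d • oPt F m 0 0 := by
          rw [← mul_smul, h3, mul_smul, gD_smul_oPt]; simp
        have h5 : c = 0 ∧ d = 0 := by
          rcases fix_of_torus ht h4 with h6 | h6
          · exfalso
            rw [gT_smul_oPt] at h6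
            exact oPt_ne_oInf _ _ h6
          · rw [gT_smul_oPt] at h6
            obtain ⟨h7, h8⟩ := oPt_inj h6
            simp only [zero_add] at h7
            subst h7
            simpa using h8
        rw [h5.1, h5.2, gT_zero, inv_mul_eq_one] at hcd
        exact Prod.ext (gT_inj hcd).1 (gT_inj hcd).2
      intro a b
      obtain ⟨cd, hcd⟩ := (Finite.injective_iff_surjective.1 hinj) (a, b)
      have h2 := hf cd
      rw [hcd] at h2
      rw [← h2, hcl]
    have h2 := hS0 t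
    rw [hS'] at h2
    simp only [h1, Finset.sum_const, Finset.card_univ, nsmul_eq_mul, mul_eq_zero] at h2
    exact h2.resolve_left (Nat.cast_ne_zero.2 Fintype.card_ne_zero)
  exact htor

theorem torInd_unip {A : Subgroup (Cfsg.Sz F m)} (hA : IsTorus A) (l : A →* ℂˣ)
    (p : unip F m) : torInd A l p = 0 := by
  classical
  letI := Fintype.ofFinite (Cfsg.Sz F m)
  by_cases hp : (p : Cfsg.Sz F m) = 1
  · rw [hp, torInd_one]
  · rw [torInd]
    refine CharInd.indFun_eq_zero_of_forall A _ fun x hx => ?_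
    obtain ⟨a, b, hab⟩ := p.2
    apply (hA.semireg hx (fun h1 => hp ?_)).1 (x⁻¹ • oInf F m)
    · rw [← mul_smul, mul_inv_cancel_right, mul_smul, hab, gT_smul_oInf]
    · have := congrArg (fun g => x * g * x⁻¹) h1
      simpa [mul_assoc] using this

open Classical in
/-- On a torus a character is the combination of its coefficients. -/
theorem apply_torus_eq {A : Subgroup (Cfsg.Sz F m)} (hA : IsTorus A)
    (χ : IrrCharacter (Cfsg.Sz F m)) {a : A} (ha : a ≠ 1) [Fintype (A →* ℂˣ)] :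
    (χ : Cfsg.Sz F m → ℂ) a = ∑ l : A →* ℂˣ, (coeff A l χ : ℂ) * (l a : ℂ) := by
  letI := Fintype.ofFinite A
  letI := hA.isCyclic.commGroup
  have hdual : ∀ b : A, ∑ l : A →* ℂˣ, (l b : ℂ) =
      if b = 1 then (Nat.card A : ℂ) else 0 := by
    intro b
    split_ifs with h
    · subst h
      rw [← CommGroup.card_monoidHom_of_hasEnoughRootsOfUnity A ℂ, Nat.card_eq_fintype_card]
      simp
    · obtain ⟨ν₀, hν₀⟩ := CommGroup.exists_apply_ne_one_of_hasEnoughRootsOfUnity A ℂ h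
      have h1 : (ν₀ b : ℂ) * ∑ ν : A →* ℂˣ, (ν b : ℂ) = ∑ ν : A →* ℂˣ, (ν b : ℂ) := by
        rw [Finset.mul_sum, ← Equiv.sum_comp (Equiv.mulLeft ν₀) fun ν => (ν b : ℂ)]
        exact Finset.sum_congr rfl fun ν _ => by simp
      have h2 : ((ν₀ b : ℂ) - 1) * ∑ ν : A →* ℂˣ, (ν b : ℂ) = 0 := by
        rw [sub_mul, h1, one_mul, sub_self]
      rcases mul_eq_zero.1 h2 with h3 | h3
      · exact absurd (Units.ext (sub_eq_zero.1 h3)) hν₀
      · exact h3
  simp only [coeff_spec, sub_mul, Finset.sum_sub_distrib]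
  rw [← Finset.mul_sum, hdual, if_neg ha, mul_zero, sub_zero]
  simp only [classInner]
  rw [Finset.sum_congr rfl fun l _ => mul_assoc _ _ _, ← Finset.mul_sum]
  simp only [Finset.sum_mul]
  rw [Finset.sum_comm]
  have hb : ∀ b : A, ∑ l : A →* ℂˣ, (χ : Cfsg.Sz F m → ℂ) b * conj (l b : ℂ) * (l a : ℂ) =
      if b⁻¹ * a = 1 then (χ : Cfsg.Sz F m → ℂ) b * (Nat.card A : ℂ) else 0 := by
    intro b
    rw [Finset.sum_congr rfl (g := fun l : A →* ℂˣ => (χ : Cfsg.Sz F m → ℂ) b * (l (b⁻¹ * a) : ℂ))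
      (fun l _ => by rw [conj_unitHom, map_mul, Units.val_mul]; ring), ← Finset.mul_sum, hdual]
    split_ifs <;> simp
  rw [Finset.sum_congr rfl fun b _ => hb b]
  simp only [inv_mul_eq_one]
  rw [Finset.sum_ite_eq', if_pos (Finset.mem_univ a), mul_comm _ (Nat.card A : ℂ),
    inv_mul_cancel_left₀ (Nat.cast_ne_zero.2 Nat.card_pos.ne')]

/-- A character with constant coefficient `k` has value `-k` on the torus. -/
theorem apply_torus_const {A : Subgroup (Cfsg.Sz F m)} (hA : IsTorus A)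
    (χ : IrrCharacter (Cfsg.Sz F m)) {k : ℤ} (h : ∀ l : A →* ℂˣ, l ≠ 1 → coeff A l χ = k)
    {a : A} (ha : a ≠ 1) : (χ : Cfsg.Sz F m → ℂ) a = -(k : ℂ) := by
  classical
  haveI : Finite (A →* ℂˣ) := Char.monoidHom_complex_finite
  letI := Fintype.ofFinite (A →* ℂˣ)
  letI := hA.isCyclic.commGroup
  have h1 : coeff A (1 : A →* ℂˣ) χ = 0 := by
    letI := Fintype.ofFinite A
    have := coeff_spec A (1 : A →* ℂˣ) χ
    simp only [MonoidHom.one_apply, Units.val_one, sub_self] at this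
    exact_mod_cast this
  obtain ⟨ν₀, hν₀⟩ := CommGroup.exists_apply_ne_one_of_hasEnoughRootsOfUnity A ℂ ha
  have hs : ∑ ν : A →* ℂˣ, (ν a : ℂ) = 0 := by
    have h1 : (ν₀ a : ℂ) * ∑ ν : A →* ℂˣ, (ν a : ℂ) = ∑ ν : A →* ℂˣ, (ν a : ℂ) := by
      rw [Finset.mul_sum, ← Equiv.sum_comp (Equiv.mulLeft ν₀) fun ν => (ν a : ℂ)]
      exact Finset.sum_congr rfl fun ν _ => by simp
    have h2 : ((ν₀ a : ℂ) - 1) * ∑ ν : A →* ℂˣ, (ν a : ℂ) = 0 := by
      rw [sub_mul, h1, one_mul, sub_self]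
    exact (mul_eq_zero.1 h2).resolve_left fun h3 => hν₀ (Units.ext (sub_eq_zero.1 h3))
  rw [apply_torus_eq hA χ ha, ← Finset.sum_erase_add _ _ (Finset.mem_univ (1 : A →* ℂˣ)), h1]
  rw [← Finset.sum_erase_add _ _ (Finset.mem_univ (1 : A →* ℂˣ))] at hs
  simp only [MonoidHom.one_apply, Units.val_one] at hs
  rw [Finset.sum_congr rfl fun l hl => by rw [h l (Finset.mem_erase.1 hl).1],
    ← Finset.mul_sum, eq_neg_of_add_eq_zero_left hs]
  simp

open Classical in
/-- The number of points of the coset space fixed by a torus element is two. -/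
theorem card_conj_mem_borel {l : Fˣ} (hl : l ≠ 1) [Fintype (Cfsg.Sz F m)] :
    (Finset.univ.filter fun x : Cfsg.Sz F m => x⁻¹ * gD l * x ∈ borel F m).card =
      2 * Nat.card (borel F m) := by
  have hfib : ∀ p : suzukiOvoid F m,
      (Finset.univ.filter fun x : Cfsg.Sz F m => x • oInf F m = p).card = Nat.card (borel F m) := by
    intro p
    obtain ⟨k, hk⟩ := exists_smul_oInf p
    rw [Nat.card_eq_fintype_card, Fintype.card_subtype]
    refine Finset.card_equiv (Equiv.mulLeft k⁻¹) fun x => ?_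
    simp only [Finset.mem_filter, Finset.mem_univ, true_and, Equiv.coe_mulLeft,
      mem_stabilizer_iff, mul_smul, inv_smul_eq_iff, hk]
  have hiff : ∀ x : Cfsg.Sz F m, x⁻¹ * gD l * x ∈ borel F m ↔
      x • oInf F m = oInf F m ∨ x • oInf F m = oPt F m 0 0 := by
    intro x
    rw [mem_stabilizer_iff, mul_smul, mul_smul, inv_smul_eq_iff]
    refine ⟨fun h => fix_of_torus hl h, ?_⟩
    rintro (h | h) <;> rw [h]
    · exact gD_smul_oInf l
    · rw [gD_smul_oPt, mul_zero, mul_zero]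
  simp only [hiff]
  rw [Finset.filter_or, Finset.card_union_of_disjoint, hfib, hfib, two_mul]
  rw [Finset.disjoint_filter]
  intro x _ h1 h2
  exact oPt_ne_oInf 0 0 (h2.symm.trans h1)

theorem norm_theta_gD_le (ν : Fˣ →* ℂˣ) {l : Fˣ} (hl : l ≠ 1) :
    ‖theta (m := m) ν (gD l)‖ ≤ 2 := by
  classical
  letI := Fintype.ofFinite (Cfsg.Sz F m)
  rw [theta, CharInd.indFun_apply, norm_mul, norm_inv, Complex.norm_natCast]
  have hnorm : ∀ x : Cfsg.Sz F m, ‖extendByZero (borel F m) (borelLin ν) (x⁻¹ * gD l * x)‖ ≤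
      if x⁻¹ * gD l * x ∈ borel F m then 1 else 0 := by
    intro x
    split_ifs with h
    · rw [CharInd.extendByZero_mem _ _ h]
      have h1 := Char.isCharacter_norm_le (Char.isCharacter_of_irr (borelLin_irr ν)) ⟨_, h⟩
      simpa [borelLin] using h1
    · rw [CharInd.extendByZero_notMem _ _ h, norm_zero]
  have h2 := (norm_sum_le _ _).trans (Finset.sum_le_sum fun x (_ : x ∈ Finset.univ) => hnorm x)
  rw [Finset.sum_boole, card_conj_mem_borel hl, Nat.cast_mul] at h2
  rw [inv_mul_le_iff₀ (Nat.cast_pos.2 Nat.card_pos)]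
  exact h2.trans (le_of_eq (by push_cast; ring))

theorem steinberg_gD {l : Fˣ} (hl : l ≠ 1) : steinberg F m (gD l) = 1 := by
  classical
  letI := Fintype.ofFinite (Cfsg.Sz F m)
  rw [steinberg, Pi.sub_apply, theta, CharInd.indFun_apply]
  have key : ∀ x : Cfsg.Sz F m, extendByZero (borel F m) (borelLin 1) (x⁻¹ * gD l * x) =
      if x⁻¹ * gD l * x ∈ borel F m then 1 else 0 := by
    intro x
    split_ifs with h
    · rw [CharInd.extendByZero_mem _ _ h]; simp [borelLin]
    · rw [CharInd.extendByZero_notMem _ _ h]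
  rw [Finset.sum_congr rfl fun x _ => key x, Finset.sum_boole, card_conj_mem_borel hl,
    Nat.cast_mul, mul_comm ((2 : ℕ) : ℂ), inv_mul_cancel_left₀ (Nat.cast_ne_zero.2 Nat.card_pos.ne')]
  norm_num

theorem steinberg_semireg {g : Cfsg.Sz F m} (hg : Semireg g) : steinberg F m g = -1 := by
  rw [steinberg, Pi.sub_apply, theta_semireg 1 hg]; simp

theorem steinberg_unip {p : Cfsg.Sz F m} (hp : p ∈ unip F m) (hp1 : p ≠ 1) :
    steinberg F m p = 0 := by
  rw [steinberg, Pi.sub_apply, theta_unip 1 hp hp1, sub_self]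

end Cfsg.Agent.SzChar
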